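import Cfsg.Agent.PSolv92.Orbit

/-!
# Bounds on the terms of the identity
-/

set_option autoImplicit false
set_option linter.unusedSectionVars false

namespace Cfsg.Agent.PSolv92

open Cfsg Cfsg.Agent.BlocksCore Cfsg.Agent.BlocksDefect Finset
open AbelianPrincipal CyclicPrincipal AbelianShape
open AbelianThree (orbSum)

theorem add_le_of_dvd {p a d : ℤ} (hd : 0 < d) (hap : a < p) (hdvd : p ∣ d - a) (hne : d ≠ a) :
    p + a ≤ d := by
  obtain ⟨k, hk⟩ := hdvd
  by_contra hc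
  have hp : 0 < p ∨ p ≤ 0 := lt_or_ge 0 p
  rcases hp with hp | hp
  · have hk0 : k ≤ 0 := by
      by_contra hk1
      have : p * 1 ≤ p * k := mul_le_mul_of_nonneg_left (by omega) hp.le
      linarith
    rcases hk0.lt_or_eq with hk1 | hk1
    · have : p * k ≤ p * (-1) := mul_le_mul_of_nonneg_left (by omega) hp.le
      linarith
    · subst hk1
      exact hne (by linarith)
  · linarith

/-- The bound on a term `a ^ 3 / d`. -/
theorem cube_div_le {p a d : ℤ} (hd : 0 < d) (hap : a < p) (hdvd : p ∣ d - a) (hne : d ≠ a) :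
    (a : ℚ) ^ 3 / d ≤ (a : ℚ) ^ 2 / 2 := by
  have hd' : (0 : ℚ) < d := by exact_mod_cast hd
  rw [div_le_div_iff₀ hd' two_pos]
  rcases le_or_gt a 0 with ha | ha
  · have h3 : (a : ℚ) ≤ 0 := by exact_mod_cast ha
    have h4 : (a : ℚ) ^ 3 * 2 ≤ 0 := by nlinarith [sq_nonneg (a : ℚ)]
    nlinarith [sq_nonneg (a : ℚ)]
  · have h3 : (2 : ℚ) * a ≤ d := by
      have := add_le_of_dvd hd hap hdvd hne
      exact_mod_cast (show 2 * a ≤ d by omega)
    nlinarith [sq_nonneg (a : ℚ)]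

variable {G : Type*} [Group G] [Fintype G] {p : ℕ} [hp : Fact p.Prime] {M : Ideal AlgInt}
  {P : Sylow p G} [Fintype (P : Subgroup G)]

open scoped Classical in
/-- The sum of the values away from `1` is minus the degree modulo the order of `P`. -/
theorem dvd_degree (χ : IrrCharacter G) (s : ℤ)
    (hs : ∑ y ∈ univ.erase (1 : (P : Subgroup G)), (χ : G → ℂ) (y : G) = (s : ℂ)) :
    (Nat.card P : ℤ) ∣ (charDegree (χ : G → ℂ) : ℤ) + s := by
  obtain ⟨a, ha⟩ := CharCore.IsCharacter.exists_classInner_eq_natCast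
    (CharCore.isCharacter_comp (CharCore.irr_isCharacter χ) (P : Subgroup G).subtype)
    (CharCore.IsIrrCharacter.isCharacter
      (CharCore.isIrrCharacter_hom (1 : ↥(P : Subgroup G) →* ℂˣ)))
  have h1 : ∑ y : (P : Subgroup G), (χ : G → ℂ) (y : G) = (Nat.card P : ℂ) * a := by
    rw [← ha, Cfsg.classInner, ← mul_assoc,
      mul_inv_cancel₀ (Nat.cast_ne_zero.mpr Nat.card_pos.ne'), one_mul]
    exact Finset.sum_congr rfl fun y _ => by simp
  rw [← Finset.add_sum_erase _ _ (mem_univ (1 : (P : Subgroup G))), hs, OneMemClass.coe_one,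
    irr_one_eq] at h1
  refine ⟨(a : ℤ), Int.cast_injective (α := ℂ) ?_⟩
  push_cast
  exact h1

/-- An integer value away from `1` is congruent to the degree. -/
theorem dvd_degree_sub (χ : IrrCharacter G) (a : ℤ)
    (hv : ∀ y : (P : Subgroup G), y ≠ 1 → (χ : G → ℂ) (y : G) = (a : ℂ)) :
    (Nat.card P : ℤ) ∣ (charDegree (χ : G → ℂ) : ℤ) - a := by
  classical
  have h1 := dvd_degree (P := P) χ (((Nat.card P : ℤ) - 1) * a) (by
    rw [sum_congr rfl (g := fun _ => (a : ℂ)) fun y hy => hv y (ne_of_mem_erase hy), sum_const,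
      card_erase_of_mem (mem_univ _), card_univ, ← Nat.card_eq_fintype_card, nsmul_eq_mul,
      Nat.cast_sub Nat.card_pos]
    push_cast
    ring)
  have h2 := dvd_sub h1 (dvd_mul_right (Nat.card P : ℤ) a)
  rwa [show (charDegree (χ : G → ℂ) : ℤ) + ((Nat.card P : ℤ) - 1) * a - (Nat.card P : ℤ) * a =
    (charDegree (χ : G → ℂ) : ℤ) - a by ring] at h2

theorem charDegree_pos_int (χ : IrrCharacter G) : (0 : ℤ) < (charDegree (χ : G → ℂ) : ℤ) := by
  exact_mod_cast charDegree_pos χ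

theorem value_ne_degree {χ : IrrCharacter G} (hχ : χ ≠ oneIrr G) {t : G} (a : ℤ)
    (hgen : ∀ K : Subgroup G, K.Normal → t ∈ K → K = ⊤) (hv : (χ : G → ℂ) t = (a : ℂ)) :
    (charDegree (χ : G → ℂ) : ℤ) ≠ a := fun he => by
  refine AbelianThree.apply_ne_degree hχ hgen ?_
  rw [hv, irr_one_eq, ← he]
  norm_cast

theorem cube_term (χ : IrrCharacter G) (a : ℤ) :
    ((((a : ℚ) ^ 3 / ((charDegree (χ : G → ℂ) : ℤ) : ℚ)) : ℚ) : ℂ) =
      (a : ℂ) ^ 3 / (χ : G → ℂ) 1 := by
  rw [irr_one_eq]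
  push_cast
  ring

end Cfsg.Agent.PSolv92
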