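import Cfsg.Agent.PSolv92.Arith

/-!
# No simple group with the pair property and a free automizer
-/

set_option autoImplicit false
set_option linter.unusedSectionVars false

namespace Cfsg.Agent.PSolv92

open Cfsg Cfsg.Agent.BlocksCore Cfsg.Agent.BlocksDefect Finset
open AbelianPrincipal CyclicPrincipal AbelianShape
open AbelianThree (orbSum)

variable {G : Type*} [Group G] [Fintype G] {p : ℕ} [hp : Fact p.Prime] {M : Ideal AlgInt}
  {P : Sylow p G} [Fintype (P : Subgroup G)] [hcyc : IsCyclic (P : Subgroup G)]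

set_option quotPrecheck false in
local notation "eN" => Subgroup.relIndex (Subgroup.centralizer ((P : Subgroup G) : Set G))
  (Subgroup.normalizer ((P : Subgroup G) : Set G))

theorem eN_add_one_le (h : Free P) {x : (P : Subgroup G)} (hxp : orderOf (x : G) = p) :
    eN + 1 ≤ p := by
  classical
  have h1 := card_sylOrd_conj (P := P) h hxp
  have h2 : ((sylOrd P).filter fun v : (P : Subgroup G) => IsConj (v : G) (x : G)).card ≤ p - 1 :=
    (card_filter_le _ _).trans_eq (card_sylOrd x.2 hxp)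
  have := hp.out.one_lt
  omega

omit hcyc [Fintype (P : Subgroup G)] in
theorem eq_or_sq_le {x : (P : Subgroup G)} (hxp : orderOf (x : G) = p) :
    Nat.card P = p ∨ p ^ 2 ≤ Nat.card P := by
  obtain ⟨n, hn⟩ := IsPGroup.iff_card.mp P.2
  have hd := Subgroup.orderOf_dvd_natCard _ x.2
  rw [hxp] at hd
  match n, hn with
  | 0, hn =>
    rw [hn, pow_zero] at hd
    exact absurd (Nat.dvd_one.mp hd) hp.out.ne_one
  | 1, hn => exact Or.inl (by rw [hn, pow_one])
  | k + 2, hn => exact Or.inr (by rw [hn]; exact pow_le_pow_right₀ hp.out.one_le (by omega))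

open scoped Classical in
theorem sylOrd_eq_erase {x : (P : Subgroup G)} (hxp : orderOf (x : G) = p) (hq : Nat.card P = p) :
    sylOrd P = univ.erase (1 : (P : Subgroup G)) := by
  refine eq_of_subset_of_card_le (fun v hv => mem_erase.mpr ⟨sylOrd_subset_erase v hv, mem_univ _⟩)
    ?_
  rw [card_sylOrd x.2 hxp, card_erase_of_mem (mem_univ _), card_univ, ← Nat.card_eq_fintype_card,
    hq]

open scoped Classical in
theorem ordSum_const {x : (P : Subgroup G)} (hxp : orderOf (x : G) = p) (θ : G → ℂ) (a : ℂ)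
    (hv : ∀ y : (P : Subgroup G), y ≠ 1 → θ (y : G) = a) : ordSum P θ = ((p : ℂ) - 1) * a := by
  rw [ordSum, sum_congr rfl (g := fun _ => a) fun v hv' => hv v (sylOrd_subset_erase v hv'),
    sum_const, card_sylOrd x.2 hxp, nsmul_eq_mul, Nat.cast_sub hp.out.one_le, Nat.cast_one]

variable (hM : IsPModular p M) (h : Free P) (hG : Pairs p G)
  (hgen : ∀ t : G, t ≠ 1 → ∀ K : Subgroup G, K.Normal → t ∈ K → K = ⊤)
  {x : (P : Subgroup G)} (hxp : orderOf (x : G) = p)
  (he : 2 ≤ Subgroup.relIndex (Subgroup.centralizer ((P : Subgroup G) : Set G))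
    (Subgroup.normalizer ((P : Subgroup G) : Set G)))

include hM h hG hgen hxp he

/-- The case of one orbit. -/
theorem false_of_one_orbit (hr : Fintype.card (Orb P) = 1) : False := by
  classical
  have := isPrime hM
  have horb := card_orb_mul h
  have hle := eN_add_one_le h hxp
  have hp2 := hp.out.two_le
  have hq : Nat.card P = p := by
    rcases eq_or_sq_le hxp with hq | hq
    · exact hq
    · exfalso
      have : 2 * p ≤ p ^ 2 := by rw [pow_two]; exact Nat.mul_le_mul_right p hp2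
      rw [hr, one_mul] at horb
      omega
  have hen : eN = p - 1 := by rw [hr, one_mul, hq] at horb; exact horb
  have hp3 : 3 ≤ p := by omega
  have hp0 : (0 : ℚ) < (p : ℚ) - 1 := by
    have : (3 : ℚ) ≤ (p : ℚ) := by exact_mod_cast hp3
    linarith
  obtain ⟨o₀, ho₀⟩ := Fintype.card_eq_one_iff.mp hr
  set a : IrrCharacter G → ℤ := fun θ => -vecO θ o₀ with hadef
  have hx : x ≠ 1 := fun h1 => ne_one_of_orderOf hxp (by rw [h1]; rfl)
  have hval : ∀ θ : IrrCharacter G, ∀ y : (P : Subgroup G), y ≠ 1 →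
      (θ : G → ℂ) (y : G) = (a θ : ℂ) := fun θ y hy => by
    rw [apply_of_const h θ (vecO θ o₀) (fun o => by rw [ho₀ o]) hy, hadef, Int.cast_neg]
  have h1m : oneIrr G ∈ members M G := mem_members.mpr oneIrr_mem
  have hone : a (oneIrr G) = 1 := by rw [hadef]; simp [vecO_one h]
  -- the three relations
  have hgram : ∑ θ ∈ (members M G).erase (oneIrr G), a θ ^ 2 = (p : ℤ) - 1 := by
    have h1 := gram hM h o₀ o₀
    rw [if_pos rfl, ← add_sum_erase _ _ h1m, vecO_one h, hen, Nat.cast_sub hp.out.one_le] at h1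
    rw [sum_congr rfl fun θ _ => show a θ ^ 2 = vecO θ o₀ * vecO θ o₀ by rw [hadef]; ring]
    push_cast at h1
    linarith
  have hdeg : ∑ θ ∈ (members M G).erase (oneIrr G),
      (charDegree (θ : G → ℂ) : ℤ) * a θ = -1 := by
    have h1 := sum_degree_mul hM (P := P) o₀
    rw [← add_sum_erase _ _ h1m, vecO_one h] at h1
    have h2 : (charDegree ((oneIrr G : IrrCharacter G) : G → ℂ) : ℤ) = 1 := by
      exact_mod_cast Nat.cast_injective (R := ℂ)
        (show (charDegree ((oneIrr G : IrrCharacter G) : G → ℂ) : ℂ) = ((1 : ℕ) : ℂ) by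
          rw [← irr_one_eq, coe_oneIrr, Nat.cast_one])
    rw [h2] at h1
    rw [sum_congr rfl fun (θ : IrrCharacter G) _ => show (charDegree (θ : G → ℂ) : ℤ) * a θ =
      -((charDegree (θ : G → ℂ) : ℤ) * vecO θ o₀) by rw [hadef]; ring, sum_neg_distrib]
    linarith
  set A : ℚ := ∑ θ ∈ (members M G).erase (oneIrr G),
    (a θ : ℚ) ^ 3 / ((charDegree (θ : G → ℂ) : ℤ) : ℚ) with hA
  have hI : ((p : ℚ) - 1) * (1 + A) = (p : ℚ) * ((p : ℚ) - 2) := by
    refine mul_left_cancel₀ hp0.ne' (Rat.cast_injective (α := ℂ) ?_)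
    have h1 := sum_mem_eq hM h hG x.2 hxp
    rw [hq, hen, sum_congr rfl (g := fun θ : IrrCharacter G =>
      ((p : ℂ) - 1) ^ 2 * ((a θ : ℂ) ^ 3 / (θ : G → ℂ) 1)) fun θ _ => by
        rw [ordSum_const hxp _ _ (hval θ), hval θ x hx]; ring, ← mul_sum,
      ← add_sum_erase _ _ h1m, hone,
      sum_congr rfl fun θ _ => (cube_term θ (a θ)).symm, ← Rat.cast_sum, ← hA,
      Nat.cast_sub hp.out.one_le] at h1
    simp only [coe_oneIrr, Int.cast_one, one_pow, div_one, Nat.cast_one] at h1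
    push_cast
    linear_combination h1
  -- each term
  have hone' : ∀ θ ∈ (members M G).erase (oneIrr G), θ ≠ oneIrr G := fun θ hθ => ne_of_mem_erase hθ
  have hsmall : ∀ θ ∈ (members M G).erase (oneIrr G), a θ ^ 2 ≤ (p : ℤ) - 1 := fun θ hθ =>
    hgram ▸ single_le_sum (fun i _ => sq_nonneg (a i)) hθ
  have hcong : ∀ θ : IrrCharacter G, (p : ℤ) ∣ (charDegree (θ : G → ℂ) : ℤ) - a θ := fun θ => by
    have := dvd_degree_sub θ (a θ) (hval θ)
    rwa [hq] at this
  have hne : ∀ θ ∈ (members M G).erase (oneIrr G), (charDegree (θ : G → ℂ) : ℤ) ≠ a θ :=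
    fun θ hθ => value_ne_degree (hone' θ hθ) (a θ) (hgen x (ne_one_of_orderOf hxp))
      (hval θ x hx)
  have hlt : ∀ θ ∈ (members M G).erase (oneIrr G), a θ < (p : ℤ) := fun θ hθ => by
    have h1 := hsmall θ hθ
    nlinarith
  by_cases hp5 : 5 ≤ p
  · have hbound : A ≤ ((p : ℚ) - 1) / 2 := by
      refine (sum_le_sum fun θ hθ => cube_div_le (charDegree_pos_int θ) (hlt θ hθ) (hcong θ)
        (hne θ hθ)).trans_eq ?_
      rw [← sum_div]
      congr 1
      exact_mod_cast hgram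
    have h5 : (5 : ℚ) ≤ (p : ℚ) := by exact_mod_cast hp5
    nlinarith [mul_le_mul_of_nonneg_left hbound hp0.le]
  · obtain rfl : p = 3 := by
      have : p ≠ 4 := fun h4 => by
        have := hp.out
        rw [h4] at this
        exact absurd this (by norm_num)
      omega
    obtain ⟨θ₀, hθ₀, ha₀⟩ : ∃ θ ∈ (members M G).erase (oneIrr G), a θ < 0 := by
      by_contra hc
      push Not at hc
      have : (0 : ℤ) ≤ -1 := hdeg ▸ sum_nonneg fun θ hθ =>
        mul_nonneg (charDegree_pos_int θ).le (hc θ hθ)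
      omega
    have hterm : ∀ θ ∈ (members M G).erase (oneIrr G),
        (a θ : ℚ) ^ 3 / ((charDegree (θ : G → ℂ) : ℤ) : ℚ) ≤ (a θ : ℚ) ^ 2 / 4 := by
      intro θ hθ
      have hd : (0 : ℚ) < ((charDegree (θ : G → ℂ) : ℤ) : ℚ) := by
        exact_mod_cast charDegree_pos_int θ
      rcases le_or_gt (a θ) 0 with ha | ha
      · have h0 : (a θ : ℚ) ^ 3 ≤ 0 := by
          have : (a θ : ℚ) ≤ 0 := by exact_mod_cast ha
          nlinarith [sq_nonneg (a θ : ℚ)]
        exact (div_nonpos_of_nonpos_of_nonneg h0 hd.le).trans (by positivity)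
      · have ha1 : a θ = 1 := by
          have h1 := hsmall θ hθ
          push_cast at h1
          nlinarith
        have h4 := add_le_of_dvd (charDegree_pos_int θ) (hlt θ hθ) (hcong θ) (hne θ hθ)
        rw [ha1] at h4 ⊢
        have h4' : (4 : ℚ) ≤ ((charDegree (θ : G → ℂ) : ℤ) : ℚ) := by exact_mod_cast h4
        rw [div_le_div_iff₀ hd (by norm_num)]
        push_cast at h4' ⊢
        linarith
    have hstrict : (a θ₀ : ℚ) ^ 3 / ((charDegree (θ₀ : G → ℂ) : ℤ) : ℚ) < (a θ₀ : ℚ) ^ 2 / 4 := by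
      have h0 : (a θ₀ : ℚ) < 0 := by exact_mod_cast ha₀
      have hd : (0 : ℚ) < ((charDegree (θ₀ : G → ℂ) : ℤ) : ℚ) := by
        exact_mod_cast charDegree_pos_int θ₀
      have : 0 < (a θ₀ : ℚ) ^ 2 := sq_pos_of_ne_zero h0.ne
      calc (a θ₀ : ℚ) ^ 3 / _ < 0 := div_neg_of_neg_of_pos (by nlinarith) hd
        _ < _ := by positivity
    have hlast : A < 1 / 2 := by
      refine (sum_lt_sum hterm ⟨θ₀, hθ₀, hstrict⟩).trans_eq ?_
      rw [← sum_div]
      have : (∑ θ ∈ (members M G).erase (oneIrr G), (a θ : ℚ) ^ 2) = 2 := by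
        exact_mod_cast hgram
      rw [this]
      norm_num
    norm_num at hI
    linarith

omit hG hgen hxp he in
theorem sum_split {m : ℕ} (D : Data M P m) (F : IrrCharacter G → ℂ) :
    ∑ θ ∈ members M G, F θ = ∑ θ ∈ D.X, F θ + ∑ o, F (D.f o) := by
  classical
  have hsub : Finset.univ.image D.f ⊆ members M G := fun χ hχ => by
    obtain ⟨o, -, rfl⟩ := Finset.mem_image.mp hχ
    exact D.mem o
  rw [← Finset.sum_sdiff hsub, Finset.sum_image fun a _ b _ hab => D.inj hab]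
  rfl

omit hG hgen hxp he in
theorem apply_X_val {m : ℕ} (D : Data M P m) {θ : IrrCharacter G} (hθ : θ ∈ D.X)
    {y : (P : Subgroup G)} (hy : y ≠ 1) : (θ : G → ℂ) (y : G) = ((-D.c θ : ℤ) : ℂ) := by
  obtain ⟨h1, h2⟩ := (Data.mem_X hM h D).mp hθ
  rw [apply_of_const h θ (D.c θ) (D.vec_c θ h1 h2) hy, Int.cast_neg]

omit hG hgen hxp he in
theorem apply_f_val {m : ℕ} (D : Data M P m) {ψ : Dual P} (hψ : ψ ≠ 1) {y : (P : Subgroup G)}
    (hy : y ≠ 1) :
    (D.f (orb ψ hψ) : G → ℂ) (y : G) = -(D.d : ℂ) + (D.ε : ℂ) * orbSum ψ y := by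
  classical
  rw [apply_of_exceptional h (D.f (orb ψ hψ)) D.d D.ε hψ (fun o => D.vec_f _ o) hy, orbSum]

/-- The case of a Sylow subgroup of order `p` with several orbits. -/
theorem false_of_prime [Nontrivial (Orb P)] (hq : Nat.card P = p) : False := by
  classical
  obtain ⟨D⟩ := exists_data hM h
  have := isPrime hM
  obtain ⟨o₁⟩ := (inferInstance : Nonempty (Orb P))
  set r : ℕ := Fintype.card (Orb P) with hr
  have hr2 : 2 ≤ r := Fintype.one_lt_card
  have horb : r * eN + 1 = p := by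
    have h1 := card_orb_mul h
    rw [← hr, hq] at h1
    rw [h1]
    have := hp.out.one_le
    omega
  have hx : x ≠ 1 := fun h1 => ne_one_of_orderOf hxp (by rw [h1]; rfl)
  set u : ℤ := -((r : ℤ) * D.d) - D.ε with hu
  set Dg : ℤ := (charDegree (D.f o₁ : G → ℂ) : ℤ) with hDg
  have hDg0 : 0 < Dg := charDegree_pos_int _
  have hdegf : ∀ o, (D.f o : G → ℂ) 1 = (Dg : ℂ) := fun o => by
    rw [Data.eq_regular hM h D o o₁ (g := 1) (by rw [orderOf_one]; exact hp.out.not_dvd_one),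
      irr_one_eq, hDg, Int.cast_natCast]
  have hpC : (p : ℂ) = (r : ℂ) * (eN : ℂ) + 1 := by exact_mod_cast horb.symm
  have he0 : (eN : ℂ) ≠ 0 := Nat.cast_ne_zero.mpr (by omega)
  have hS : ∀ o, ordSum P (D.f o : G → ℂ) = (eN : ℂ) * (u : ℂ) := by
    intro o
    obtain ⟨⟨ψ, hψ⟩, rfl⟩ := Quotient.exists_rep o
    rw [ordSum, sylOrd_eq_erase hxp hq,
      sum_congr rfl fun y hy => apply_f_val hM h D hψ (ne_of_mem_erase hy), sum_add_distrib,
      ← mul_sum, sum_erase_orbSum h hψ, sum_const, card_erase_of_mem (mem_univ _), card_univ,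
      ← Nat.card_eq_fintype_card, hq, nsmul_eq_mul, Nat.cast_sub hp.out.one_le, Nat.cast_one, hu]
    push_cast
    rw [hpC]
    ring
  have hfx : ∑ o, (D.f o : G → ℂ) (x : G) = (u : ℂ) := by
    refine mul_left_cancel₀ he0 ?_
    rw [← sum_orb_mul h _ (fun ψ => -(D.d : ℂ) + (D.ε : ℂ) * orbSum ψ x)
      fun ψ hψ => (apply_f_val hM h D hψ hx).symm, sum_add_distrib, ← mul_sum, sum_orbSum h hx,
      sum_const, card_erase_of_mem (mem_univ _), card_univ, ← Nat.card_eq_fintype_card,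
      natCard_dual h, hq, nsmul_eq_mul, Nat.cast_sub hp.out.one_le, Nat.cast_one, hu]
    push_cast
    rw [hpC]
    ring
  have h1X := Data.one_mem_X hM h D
  have hc1 := Data.c_one hM h D
  -- the norm
  set w : ℤ := (r : ℤ) * (D.d * D.d) + 2 * D.ε * D.d with hw
  have hnorm : ∑ θ ∈ D.X.erase (oneIrr G), D.c θ ^ 2 + w = (eN : ℤ) - 1 := by
    have h1 := Data.norm_split hM h D
    rw [← add_sum_erase _ _ h1X, hc1, ← hr, ← hw] at h1
    simp only [pow_two]
    linarith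
  have hr2' : (2 : ℤ) ≤ (r : ℤ) := by exact_mod_cast hr2
  have hw0 : 0 ≤ w := by
    rcases eq_or_ne D.d 0 with hd1 | hd1
    · simp [hw, hd1]
    · have h2 : D.d ≤ D.d * D.d ∧ -D.d ≤ D.d * D.d := by
        constructor <;> rcases lt_or_gt_of_ne hd1 with h3 | h3 <;> nlinarith
      have h3 := mul_le_mul_of_nonneg_right hr2' (mul_self_nonneg D.d)
      rcases D.sign with e1 | e1 <;> rw [hw, e1] <;> linarith [h2.1, h2.2]
  have hu2 : u ^ 2 = (r : ℤ) * w + 1 := by
    have hε : D.ε ^ 2 = 1 := by rcases D.sign with e1 | e1 <;> simp [e1]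
    rw [hu, hw]
    linear_combination hε
  have hS0 : 0 ≤ ∑ θ ∈ D.X.erase (oneIrr G), D.c θ ^ 2 := sum_nonneg fun θ _ => sq_nonneg _
  have hpZ : (p : ℤ) = (r : ℤ) * (eN : ℤ) + 1 := by exact_mod_cast horb.symm
  have he2 : (2 : ℤ) ≤ (eN : ℤ) := by exact_mod_cast he
  have hup : u < (p : ℤ) := by
    have h1 := mul_le_mul_of_nonneg_left (show w ≤ (eN : ℤ) - 1 by linarith)
      (show (0 : ℤ) ≤ (r : ℤ) by positivity)
    nlinarith [Int.le_self_sq u]
  set Q : ℚ := ∑ θ ∈ D.X.erase (oneIrr G),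
    ((-D.c θ : ℤ) : ℚ) ^ 3 / ((charDegree (θ : G → ℂ) : ℤ) : ℚ) with hQ
  -- the identity
  have hI : (r : ℚ) ^ 2 * (1 + Q) * (eN : ℚ) + (eN : ℚ) * ((u : ℚ) ^ 3 / (Dg : ℚ)) =
      (p : ℚ) * ((p : ℚ) - 2) := by
    refine mul_left_cancel₀ (show (eN : ℚ) ≠ 0 from Nat.cast_ne_zero.mpr (by omega))
      (Rat.cast_injective (α := ℂ) ?_)
    have h1 := sum_mem_eq hM h hG x.2 hxp
    rw [sum_split hM h D,
      sum_congr rfl (g := fun θ : IrrCharacter G =>
        ((p : ℂ) - 1) ^ 2 * (((-D.c θ : ℤ) : ℂ) ^ 3 / (θ : G → ℂ) 1)) fun θ hθ => by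
          rw [ordSum_const hxp _ _ fun y hy => apply_X_val hM h D hθ hy,
            apply_X_val hM h D hθ hx]
          ring,
      sum_congr rfl (s₁ := (univ : Finset (Orb P)))
        (g := fun o => ((eN : ℂ) * (u : ℂ)) ^ 2 / (Dg : ℂ) * (D.f o : G → ℂ) (x : G)) fun o _ => by
          rw [hS o, hdegf o]; ring,
      ← mul_sum, ← mul_sum, hfx, ← add_sum_erase _ _ h1X, hc1,
      sum_congr rfl fun θ _ => (cube_term θ (-D.c θ)).symm, ← Rat.cast_sum, ← hQ, hq] at h1
    simp only [coe_oneIrr, neg_neg, Int.cast_one, one_pow, div_one] at h1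
    push_cast
    rw [hpC] at h1 ⊢
    linear_combination h1
  -- the bounds
  have hQle : Q ≤ ((eN : ℚ) - 1 - (w : ℚ)) / 2 := by
    have hsum : ∑ θ ∈ D.X.erase (oneIrr G), (((-D.c θ : ℤ) : ℚ)) ^ 2 =
        (eN : ℚ) - 1 - (w : ℚ) := by
      have h1 : ((∑ θ ∈ D.X.erase (oneIrr G), D.c θ ^ 2 : ℤ) : ℚ) =
          (((eN : ℤ) - 1 - w : ℤ) : ℚ) := by
        congr 1
        linarith
      push_cast at h1 ⊢
      simpa using h1
    rw [← hsum, sum_div]
    refine sum_le_sum fun θ hθ => ?_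
    have hθX := mem_of_mem_erase hθ
    refine cube_div_le (charDegree_pos_int θ) (p := (p : ℤ)) ?_ ?_
      (value_ne_degree (ne_of_mem_erase hθ) _ (hgen x (ne_one_of_orderOf hxp))
        (apply_X_val hM h D hθX hx))
    · have h1 : D.c θ ^ 2 ≤ (eN : ℤ) - 1 - w :=
        (single_le_sum (f := fun i => D.c i ^ 2) (fun i _ => sq_nonneg (D.c i)) hθ).trans_eq
          (by linarith)
      nlinarith [Int.le_self_sq (-D.c θ)]
    · have := dvd_degree_sub (P := P) θ (-D.c θ) fun y hy => apply_X_val hM h D hθX hy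
      rwa [hq] at this
  have hfle : (u : ℚ) ^ 3 / (Dg : ℚ) ≤ (r : ℚ) * ((u : ℚ) ^ 2 / 2) := by
    have hr0 : (0 : ℤ) < r := by omega
    have h1 : (p : ℤ) ∣ Dg + (eN : ℤ) * u := by
      have := dvd_degree (P := P) (D.f o₁) ((eN : ℤ) * u) (by
        rw [← sylOrd_eq_erase hxp hq]
        push_cast
        exact hS o₁)
      rwa [hq, ← hDg] at this
    have h2 : (p : ℤ) ∣ (r : ℤ) * Dg - u := by
      have h3 := dvd_sub (h1.mul_left (r : ℤ)) (dvd_mul_right (p : ℤ) u)
      rwa [show (r : ℤ) * (Dg + (eN : ℤ) * u) - (p : ℤ) * u = (r : ℤ) * Dg - u by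
        rw [hpZ]; ring] at h3
    have h3 : (r : ℤ) * Dg ≠ u := by
      intro h3
      have h4 : (r : ℤ) ∣ 1 := by
        refine ⟨-(D.d + Dg) * D.ε, ?_⟩
        have hε : D.ε ^ 2 = 1 := by rcases D.sign with e1 | e1 <;> simp [e1]
        rw [hu] at h3
        linear_combination D.ε * h3 - hε
      have := Int.le_of_dvd one_pos h4
      omega
    have h4 := cube_div_le (mul_pos hr0 hDg0) hup h2 h3
    push_cast at h4
    have hrQ : (0 : ℚ) < r := by exact_mod_cast hr0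
    rw [show (u : ℚ) ^ 3 / (Dg : ℚ) = (r : ℚ) * ((u : ℚ) ^ 3 / ((r : ℚ) * (Dg : ℚ))) by
      field_simp]
    exact mul_le_mul_of_nonneg_left h4 hrQ.le
  have hu2' : (u : ℚ) ^ 2 = (r : ℚ) * (w : ℚ) + 1 := by exact_mod_cast hu2
  have hpQ : (p : ℚ) = (r : ℚ) * (eN : ℚ) + 1 := by exact_mod_cast horb.symm
  rw [hpQ] at hI
  rw [hu2'] at hfle
  have he' : (2 : ℚ) ≤ (eN : ℚ) := by exact_mod_cast he
  have hr' : (2 : ℚ) ≤ (r : ℚ) := by exact_mod_cast hr2
  have k1 := mul_le_mul_of_nonneg_left hQle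
    (show (0 : ℚ) ≤ (r : ℚ) ^ 2 * (eN : ℚ) by positivity)
  have k2 := mul_le_mul_of_nonneg_left hfle (show (0 : ℚ) ≤ (eN : ℚ) by positivity)
  have k3 : (1 : ℚ) ≤ (r : ℚ) * ((eN : ℚ) - 1) - 1 := by nlinarith
  have k4 : (4 : ℚ) ≤ (r : ℚ) * (eN : ℚ) := by nlinarith
  nlinarith [mul_le_mul k4 k3 zero_le_one (show (0 : ℚ) ≤ (r : ℚ) * (eN : ℚ) by positivity)]

/-- The case of a larger Sylow subgroup. -/
theorem false_of_sq_le [Nontrivial (Orb P)] (hq : p ^ 2 ≤ Nat.card P) : False := by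
  classical
  obtain ⟨D⟩ := exists_data hM h
  have := isPrime hM
  obtain ⟨o₁⟩ := (inferInstance : Nonempty (Orb P))
  have hle := eN_add_one_le h hxp
  have hp2 := hp.out.two_le
  have horb := card_orb_mul h
  have hrge : p + 1 ≤ Fintype.card (Orb P) := by
    by_contra hc
    have h1 : Fintype.card (Orb P) * eN ≤ p * (p - 1) :=
      Nat.mul_le_mul (by omega) (by omega)
    rw [horb] at h1
    have h2 : p * (p - 1) + p = p ^ 2 := by
      rw [← Nat.mul_succ, Nat.succ_eq_add_one, Nat.sub_add_cancel hp.out.one_le, pow_two]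
    omega
  have hd : D.d = 0 := by
    by_contra hd
    have h1 := Data.norm_split hM h D
    rw [← add_sum_erase _ _ (Data.one_mem_X hM h D), Data.c_one hM h D] at h1
    have h2 : 0 ≤ ∑ θ ∈ D.X.erase (oneIrr G), D.c θ * D.c θ :=
      sum_nonneg fun θ _ => mul_self_nonneg _
    have h3 : 1 ≤ D.d * D.d := by
      rcases lt_or_gt_of_ne hd with h4 | h4 <;> nlinarith
    have h4 : (p : ℤ) + 1 ≤ (Fintype.card (Orb P) : ℤ) := by exact_mod_cast hrge
    have h5 : (eN : ℤ) + 1 ≤ (p : ℤ) := by exact_mod_cast hle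
    have h6 : -(D.d * D.d) ≤ D.ε * D.d := by
      rcases D.sign with e1 | e1 <;> rw [e1] <;>
        rcases lt_or_gt_of_ne hd with h7 | h7 <;> nlinarith
    nlinarith
  have hx : x ≠ 1 := fun h1 => ne_one_of_orderOf hxp (by rw [h1]; rfl)
  set T := univ.filter fun ψ : Dual P => ψ x = 1 with hT
  have hN : (p : ℂ) * (T.card : ℂ) = (Nat.card P : ℂ) := card_trivial_mul h hxp
  set Dg : ℂ := (D.f o₁ : G → ℂ) 1 with hDg
  have hDg0 : Dg ≠ 0 := irr_one_ne_zero _
  have hdegf : ∀ o, (D.f o : G → ℂ) 1 = Dg := fun o =>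
    Data.eq_regular hM h D o o₁ (g := 1) (by rw [orderOf_one]; exact hp.out.not_dvd_one)
  have hf : ∀ ψ (hψ : ψ ≠ 1) (y : (P : Subgroup G)), y ≠ 1 →
      (D.f (orb ψ hψ) : G → ℂ) (y : G) = (D.ε : ℂ) * orbSum ψ y := fun ψ hψ y hy => by
    rw [apply_f_val hM h D hψ hy, hd, Int.cast_zero, neg_zero, zero_add]
  set big := (univ.erase (1 : (P : Subgroup G))) \ sylOrd P with hbig
  have hsub : sylOrd P ⊆ univ.erase (1 : (P : Subgroup G)) := fun v hv =>
    mem_erase.mpr ⟨sylOrd_subset_erase v hv, mem_univ _⟩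
  have hbigsq : ∀ v ∈ big, p ^ 2 ∣ orderOf (v : G) := by
    intro v hv
    obtain ⟨hv1, hv2⟩ := mem_sdiff.mp hv
    rw [mem_sylOrd] at hv2
    obtain ⟨k, hk⟩ := IsPGroup.iff_orderOf.mp P.2 v
    rw [← Subgroup.orderOf_coe] at hk
    match k, hk with
    | 0, hk =>
      rw [pow_zero, Subgroup.orderOf_coe, orderOf_eq_one_iff] at hk
      exact absurd hk (ne_of_mem_erase hv1)
    | 1, hk => exact absurd (hk.trans (pow_one p)) hv2
    | j + 2, hk => exact hk ▸ pow_dvd_pow p (by omega)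
  have hSf : ∀ ψ (hψ : ψ ≠ 1), ordSum P (D.f (orb ψ hψ) : G → ℂ) =
      (D.ε : ℂ) * if ψ x = 1 then (eN : ℂ) * ((p : ℂ) - 1) else -(eN : ℂ) := fun ψ hψ => by
    rw [ordSum, sum_congr rfl fun y hy => hf ψ hψ y (sylOrd_subset_erase y hy), ← mul_sum,
      sum_sylOrd_orbSum h hxp hψ]
  have hRf : ∀ ψ (hψ : ψ ≠ 1), ∑ v ∈ big, (D.f (orb ψ hψ) : G → ℂ) (v : G) =
      (D.ε : ℂ) * if ψ x = 1 then -((eN : ℂ) * (p : ℂ)) else 0 := fun ψ hψ => by
    rw [hbig, sum_sdiff_eq_sub hsub,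
      sum_congr rfl fun y hy => hf ψ hψ y (ne_of_mem_erase hy), ← mul_sum, sum_erase_orbSum h hψ]
    rw [show ∑ v ∈ sylOrd P, (D.f (orb ψ hψ) : G → ℂ) (v : G) = _ from hSf ψ hψ]
    split_ifs <;> ring
  have hε : (D.ε : ℂ) ^ 2 = 1 := by rcases D.sign with e1 | e1 <;> simp [e1]
  set Q : ℂ := ∑ θ ∈ D.X, ((-D.c θ : ℤ) : ℂ) ^ 3 / (θ : G → ℂ) 1 with hQ
  set e : ℂ := (eN : ℂ) with hedef
  -- the first identity
  have hI : ((p : ℂ) - 1) ^ 2 * Q * Dg + (D.ε : ℂ) * (((T.card : ℂ) - 1) * (e * ((p : ℂ) - 1)) ^ 2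
      - (T.card : ℂ) * e ^ 2) = (Nat.card P : ℂ) * e * ((p : ℂ) - 2) * Dg := by
    have h1 := sum_mem_eq hM h hG x.2 hxp
    rw [sum_split hM h D, sum_congr rfl (g := fun θ : IrrCharacter G =>
        ((p : ℂ) - 1) ^ 2 * (((-D.c θ : ℤ) : ℂ) ^ 3 / (θ : G → ℂ) 1)) fun θ hθ => by
          rw [ordSum_const hxp _ _ fun y hy => apply_X_val hM h D hθ hy,
            apply_X_val hM h D hθ hx]
          ring,
      sum_orb_weighted h hxp _ ((D.ε : ℂ) * (e * ((p : ℂ) - 1)) ^ 2 / Dg)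
        ((D.ε : ℂ) * e ^ 2 / Dg) (fun ψ hψ => by
          rw [hdegf, hf ψ hψ x hx, hSf ψ hψ, mul_pow, hε]
          split_ifs <;> ring), ← mul_sum, ← hQ] at h1
    rw [← h1, ← hT]
    field_simp
  -- the second identity
  have hII : ((p : ℂ) - 1) * ((Nat.card P : ℂ) - (p : ℂ)) * Q * Dg -
      (D.ε : ℂ) * ((T.card : ℂ) - 1) * e ^ 2 * (p : ℂ) * ((p : ℂ) - 1) = 0 := by
    have h0 : ∑ v ∈ big, ∑ θ ∈ members M G,
        (θ : G → ℂ) x / (θ : G → ℂ) 1 * ordSum P (θ : G → ℂ) * (θ : G → ℂ) (v : G) = 0 := by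
      refine sum_eq_zero fun v hv => ?_
      have h2 := sum_mem_sq_eq_zero hM h hG x.2 hxp (inv_mem v.2)
        (by rw [orderOf_inv]; exact hbigsq v hv)
      rwa [inv_inv] at h2
    rw [Finset.sum_comm, sum_congr rfl (fun θ _ => (mul_sum _ _ _).symm), sum_split hM h D,
      sum_congr rfl (g := fun θ : IrrCharacter G => ((p : ℂ) - 1) * ((Nat.card P : ℂ) - (p : ℂ)) *
        (((-D.c θ : ℤ) : ℂ) ^ 3 / (θ : G → ℂ) 1)) fun θ hθ => by
          rw [ordSum_const hxp _ _ fun y hy => apply_X_val hM h D hθ hy,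
            apply_X_val hM h D hθ hx, hbig, sum_sdiff_eq_sub hsub,
            sum_congr rfl (g := fun _ => ((-D.c θ : ℤ) : ℂ)) fun y hy =>
              apply_X_val hM h D hθ (ne_of_mem_erase hy),
            sum_congr rfl (s₁ := sylOrd P) (g := fun _ => ((-D.c θ : ℤ) : ℂ)) fun y hy =>
              apply_X_val hM h D hθ (sylOrd_subset_erase y hy),
            sum_const, sum_const, card_sylOrd x.2 hxp, card_erase_of_mem (mem_univ _), card_univ,
            ← Nat.card_eq_fintype_card, nsmul_eq_mul, nsmul_eq_mul,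
            Nat.cast_sub hp.out.one_le, Nat.cast_sub (Nat.card_pos (α := (P : Subgroup G))),
            Nat.cast_one]
          ring,
      sum_orb_weighted h hxp _ (-((D.ε : ℂ) * e ^ 2 * (p : ℂ) * ((p : ℂ) - 1)) / Dg) 0
        (fun ψ hψ => by
          rw [hdegf, hf ψ hψ x hx, hSf ψ hψ, hRf ψ hψ]
          split_ifs
          · linear_combination (-(orbSum ψ x) * (D.ε : ℂ) * e ^ 2 * (p : ℂ) * ((p : ℂ) - 1) *
              Dg⁻¹) * hε
          · ring), ← mul_sum, ← hQ] at h0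
    rw [← hT] at h0
    field_simp at h0 ⊢
    linear_combination h0
  have hp3 : 3 ≤ p := by omega
  have hpp : (p : ℂ) - 1 ≠ 0 := sub_ne_zero.mpr (by exact_mod_cast hp.out.ne_one)
  have hqp : (Nat.card P : ℂ) - (p : ℂ) ≠ 0 := sub_ne_zero.mpr (by
    have : p < Nat.card P := lt_of_lt_of_le (by nlinarith) hq
    exact_mod_cast this.ne')
  have hp2' : (p : ℂ) - 2 ≠ 0 := sub_ne_zero.mpr (by exact_mod_cast (by omega : p ≠ 2))
  have hB : Q * Dg = (D.ε : ℂ) * e ^ 2 := by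
    refine mul_left_cancel₀ (mul_ne_zero hpp hqp) ?_
    linear_combination hII + ((D.ε : ℂ) * e ^ 2 * ((p : ℂ) - 1)) * hN
  have he0 : e ≠ 0 := Nat.cast_ne_zero.mpr (by omega)
  have hq0 : (Nat.card P : ℂ) ≠ 0 := Nat.cast_ne_zero.mpr Nat.card_pos.ne'
  have hDe : Dg = (D.ε : ℂ) * e := by
    refine (mul_left_cancel₀ (mul_ne_zero (mul_ne_zero hq0 he0) hp2') ?_).symm
    linear_combination hI - ((p : ℂ) - 1) ^ 2 * hB - ((D.ε : ℂ) * e ^ 2 * ((p : ℂ) - 2)) * hN
  have hεone : D.ε = 1 := by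
    rcases D.sign with e1 | e1
    · exact e1
    · exfalso
      rw [e1, hDg, irr_one_eq, hedef] at hDe
      push_cast at hDe
      have h1 : ((charDegree (D.f o₁ : G → ℂ) : ℤ) : ℂ) = ((-(eN : ℤ) : ℤ) : ℂ) := by
        push_cast
        linear_combination hDe
      have h2 := Int.cast_injective (α := ℂ) h1
      have := charDegree_pos_int (D.f o₁)
      omega
  -- a character trivial at `x`
  obtain ⟨ψ, hψT, hψ⟩ : ∃ ψ ∈ T, ψ ≠ 1 := by
    refine exists_mem_ne ?_ 1
    by_contra hc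
    have h1 : (p : ℂ) * (T.card : ℂ) = ((p * T.card : ℕ) : ℂ) := by push_cast; ring
    rw [h1] at hN
    have h2 : p * T.card = Nat.card P := by exact_mod_cast hN
    have h3 : p * T.card ≤ p * 1 := Nat.mul_le_mul_left p (by omega)
    nlinarith
  refine AbelianThree.apply_ne_degree (χ := D.f (orb ψ hψ)) (D.one_ne _) (t := (x : G))
    (hgen x (ne_one_of_orderOf hxp)) ?_
  rw [hf ψ hψ x hx, orbSum_eq h hxp hψ (mem_filter.mp hψT).2, hdegf, hDe]

/-- There is no simple group with the pair property whose automizer is free of order at least two. -/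
theorem false_of_free : False := by
  classical
  rcases (show Fintype.card (Orb P) = 0 ∨ Fintype.card (Orb P) = 1 ∨ 2 ≤ Fintype.card (Orb P) by
    omega) with h0 | h1 | h2
  · have := card_orb_mul h
    rw [h0, zero_mul] at this
    have hd := Subgroup.orderOf_dvd_natCard _ x.2
    rw [hxp] at hd
    have := Nat.le_of_dvd Nat.card_pos hd
    have := hp.out.two_le
    omega
  · exact false_of_one_orbit hM h hG hgen hxp he h1
  · have : Nontrivial (Orb P) := Fintype.one_lt_card_iff_nontrivial.mp h2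
    rcases eq_or_sq_le hxp with hq | hq
    · exact false_of_prime hM h hG hgen hxp he hq
    · exact false_of_sq_le hM h hG hgen hxp he hq

end Cfsg.Agent.PSolv92
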