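import Cfsg.Agent.PSolv92.Main

/-!
# Elementary abelian Sylow subgroups with one class of elements of order `p`

If the automizer is regular and any two elements of order `p` generate a `p`-solvable group, the sum
`∑ χ(x) ^ 3 / χ(1)` over the principal block is at least `|P| (p - 2) / (p - 1)`, which is too large
for a simple group with `p` odd.
-/

set_option autoImplicit false
set_option linter.unusedSectionVars false

namespace Cfsg.Agent.PSolv92

open Cfsg Cfsg.Agent Cfsg.Agent.BlocksCore Cfsg.Agent.BlocksDefect Finset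
open AbelianPrincipal CyclicPrincipal

variable {G : Type*} [Group G] [Finite G] {p : ℕ} [hp : Fact p.Prime]

theorem conj_mem_of_pElement (P : Sylow p G) {z : G} {k : ℕ} (hz : orderOf z = p ^ k) :
    ∃ c : G, c * z * c⁻¹ ∈ (P : Subgroup G) := by
  obtain ⟨T, hT⟩ := (IsPGroup.of_card (n := k) (by rw [Nat.card_zpowers, hz]) :
    IsPGroup p (Subgroup.zpowers z)).exists_le_sylow
  obtain ⟨c, hc⟩ := MulAction.exists_smul_eq G T P
  exact ⟨c, hc ▸ ⟨z, hT (Subgroup.mem_zpowers z), rfl⟩⟩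

/-- A `p`-solvable group with trivial `O_{p'}` and abelian Sylow subgroups has all `p`-elements in
`O_p`. -/
theorem mem_pCore_of_abelian (hs : IsPSolvable p G) (hO : pPrimeCore p G = ⊥)
    (hab : ∀ T : Sylow p G, IsMulCommutative (T : Subgroup G)) {t : G} {k : ℕ}
    (ht : orderOf t = p ^ k) : t ∈ pCore p G := by
  obtain ⟨T, hT⟩ := (IsPGroup.of_card (n := k) (by rw [Nat.card_zpowers, ht]) :
    IsPGroup p (Subgroup.zpowers t)).exists_le_sylow
  refine Thompson.centralizer_pCore_le hs hO (Subgroup.mem_centralizer_iff.mpr fun r hr => ?_)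
  exact congrArg Subtype.val ((hab T).is_comm.comm ⟨r, Thompson.pCore_le_sylow T hr⟩
    ⟨t, hT (Subgroup.mem_zpowers t)⟩)

theorem isMulCommutative_sylow_subgroup (P : Sylow p G)
    (hP : IsMulCommutative (P : Subgroup G)) (H : Subgroup G) (S : Sylow p H) :
    IsMulCommutative (S : Subgroup H) := by
  obtain ⟨T, hT⟩ := (S.isPGroup'.map H.subtype).exists_le_sylow
  refine ⟨⟨fun a b => Subtype.ext (Subtype.ext ?_)⟩⟩
  have ha : ((a : H) : G) ∈ (T : Subgroup G) := hT ⟨a, a.2, rfl⟩
  have hb : ((b : H) : G) ∈ (T : Subgroup G) := hT ⟨b, b.2, rfl⟩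
  have h1 := hP.is_comm.comm (P.equiv T |>.symm ⟨_, ha⟩) (P.equiv T |>.symm ⟨_, hb⟩)
  have h2 := congrArg (P.equiv T) h1
  rw [map_mul, map_mul, MulEquiv.apply_symm_apply, MulEquiv.apply_symm_apply] at h2
  simpa using congrArg Subtype.val h2

theorem isMulCommutative_sylow_quotient
    (hab : ∀ T : Sylow p G, IsMulCommutative (T : Subgroup G)) (N : Subgroup G) [N.Normal]
    (S : Sylow p (G ⧸ N)) : IsMulCommutative (S : Subgroup (G ⧸ N)) := by
  obtain ⟨T, rfl⟩ := Sylow.mapSurjective_surjective (QuotientGroup.mk'_surjective N) p S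
  refine ⟨⟨fun a b => Subtype.ext ?_⟩⟩
  obtain ⟨⟨x, hx, hxa⟩, ⟨y, hy, hyb⟩⟩ := And.intro a.2 b.2
  show (a : G ⧸ N) * b = b * a
  rw [← hxa, ← hyb, ← map_mul, ← map_mul]
  exact congrArg _ (congrArg Subtype.val ((hab T).is_comm.comm ⟨x, hx⟩ ⟨y, hy⟩))

open scoped Classical in
/-- At most one of the products `y * z ^ k` is `p`-regular. -/
theorem card_regular_powers_le (P : Sylow p G) (hab : IsMulCommutative (P : Subgroup G))
    {y z : G} (hy : orderOf y = p) (hz : orderOf z = p)
    (hs : IsPSolvable p ↥(Subgroup.closure ({y, z} : Set G))) :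
    ((univ : Finset (ZMod p)).filter
      fun k => k ≠ 0 ∧ ¬ p ∣ orderOf (y * z ^ k.val)).card ≤ 1 := by
  set K := Subgroup.closure ({y, z} : Set G)
  set O := pPrimeCore p K with hOdef
  set π := QuotientGroup.mk' O with hπ
  have hO := Thompson.card_pPrimeCore_coprime (G := K) (p := p)
  have habQ := isMulCommutative_sylow_quotient (isMulCommutative_sylow_subgroup P hab K) O
  have hsQ : IsPSolvable p (K ⧸ O) := Thompson.isPSolvable_quotient O hs
  have hOQ : pPrimeCore p (K ⧸ O) = ⊥ := Thompson.pPrimeCore_quotient_pPrimeCore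
  have hmem : ∀ w : K, orderOf w = p → π w ∈ pCore p (K ⧸ O) := by
    intro w hw
    obtain ⟨j, -, hj⟩ := (Nat.dvd_prime_pow hp.out).mp
      (show orderOf (π w) ∣ p ^ 1 by rw [pow_one]; exact hw ▸ orderOf_map_dvd π w)
    exact mem_pCore_of_abelian hsQ hOQ habQ hj
  set y' : K := ⟨y, Subgroup.subset_closure (by simp)⟩
  set z' : K := ⟨z, Subgroup.subset_closure (by simp)⟩
  have hy' : orderOf y' = p := by rw [← Subgroup.orderOf_coe]; exact hy
  have hz' : orderOf z' = p := by rw [← Subgroup.orderOf_coe]; exact hz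
  have htop : ∀ w : K, π w ∈ pCore p (K ⧸ O) := by
    intro w
    have : (⊤ : Subgroup K) ≤ (pCore p (K ⧸ O)).comap π := by
      rw [← Subgroup.closure_closure_coe_preimage (k := ({y, z} : Set G)), Subgroup.closure_le]
      intro a ha
      rcases (show (a : G) = y ∨ (a : G) = z by simpa using ha) with h | h
      · rw [show a = y' from Subtype.ext h]; exact hmem y' hy'
      · rw [show a = z' from Subtype.ext h]; exact hmem z' hz'
    exact this (Subgroup.mem_top w)
  have hone : ∀ k : ZMod p, ¬ p ∣ orderOf (y * z ^ k.val) → π (y' * z' ^ k.val) = 1 := by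
    intro k hk
    obtain ⟨t, ht⟩ := IsPGroup.iff_orderOf.mp (Thompson.isPGroup_pCore)
      (⟨_, htop (y' * z' ^ k.val)⟩ : pCore p (K ⧸ O))
    rw [Subgroup.orderOf_mk] at ht
    have hd := orderOf_map_dvd π (y' * z' ^ k.val)
    rw [ht, ← Subgroup.orderOf_coe] at hd
    match t, ht with
    | 0, ht => exact orderOf_eq_one_iff.mp (ht.trans (pow_zero p))
    | s + 1, _ => exact absurd (dvd_trans (dvd_pow_self p (Nat.succ_ne_zero s)) hd) hk
  have hzπ : orderOf (π z') = p := by
    refine (hp.out.eq_one_or_self_of_dvd _ (hz' ▸ orderOf_map_dvd π z')).resolve_left fun h1 => ?_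
    have hzO : z' ∈ O := (QuotientGroup.eq_one_iff z').mp (orderOf_eq_one_iff.mp h1)
    have hd := Subgroup.orderOf_dvd_natCard _ hzO
    rw [hz'] at hd
    exact hp.out.coprime_iff_not_dvd.mp hO.symm hd
  rw [card_le_one]
  intro k hk l hl
  simp only [mem_filter, mem_univ, true_and] at hk hl
  have h2 : π (y' * z' ^ k.val) = π (y' * z' ^ l.val) := (hone k hk.2).trans (hone l hl.2).symm
  rw [map_mul, map_mul, mul_left_cancel_iff, map_pow, map_pow, pow_eq_pow_iff_modEq, hzπ,
    ← ZMod.natCast_eq_natCast_iff, ZMod.natCast_zmod_val, ZMod.natCast_zmod_val] at h2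
  exact h2

open scoped Classical in
/-- The regular products are at most one in `p - 1`. -/
theorem card_regular_le [Fintype G] (P : Sylow p G) (hab : IsMulCommutative (P : Subgroup G))
    (hgen : ∀ y z : G, orderOf y = p → orderOf z = p →
      IsPSolvable p ↥(Subgroup.closure ({y, z} : Set G))) {y : G} (hy : orderOf y = p) :
    ((ordp p G).filter fun z => ¬ p ∣ orderOf (y * z)).card * (p - 1) ≤ (ordp p G).card := by
  set T := (univ : Finset (ZMod p)).filter fun k => k ≠ 0 with hT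
  have hTcard : T.card = p - 1 := by
    rw [hT, filter_ne', card_erase_of_mem (mem_univ _), card_univ, ZMod.card]
  have h1 : ∑ k ∈ T, ((ordp p G).filter fun z => ¬ p ∣ orderOf (y * z ^ k.val)).card
      ≤ (ordp p G).card := by
    simp only [card_filter]
    rw [sum_comm]
    refine (sum_le_sum (g := fun _ => 1) fun z hz => ?_).trans_eq (by simp)
    rw [← card_filter, hT, filter_filter]
    exact card_regular_powers_le P hab hy (mem_ordp.mp hz) (hgen y z hy (mem_ordp.mp hz))
  have h2 : ∀ k ∈ T, ((ordp p G).filter fun z => ¬ p ∣ orderOf (y * z ^ k.val)).card =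
      ((ordp p G).filter fun z => ¬ p ∣ orderOf (y * z)).card := by
    intro k hk
    have hk0 : k ≠ 0 := (mem_filter.mp hk).2
    refine card_nbij' (fun z => z ^ k.val) (fun z => z ^ (k⁻¹).val) ?_ ?_ ?_ ?_
    · intro z hz
      simp only [coe_filter, mem_ordp, Set.mem_setOf_eq] at hz ⊢
      exact ⟨pow_val_mem hz.1 hk0, hz.2⟩
    · intro z hz
      simp only [coe_filter, mem_ordp, Set.mem_setOf_eq] at hz ⊢
      have := pow_val_pow_inv hz.1 (inv_ne_zero hk0)
      rw [inv_inv] at this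
      exact ⟨pow_val_mem hz.1 (inv_ne_zero hk0), by rw [this]; exact hz.2⟩
    · intro z hz
      simp only [coe_filter, mem_ordp, Set.mem_setOf_eq] at hz
      exact pow_val_pow_inv hz.1 hk0
    · intro z hz
      simp only [coe_filter, mem_ordp, Set.mem_setOf_eq] at hz
      have := pow_val_pow_inv hz.1 (inv_ne_zero hk0)
      rwa [inv_inv] at this
  rw [sum_congr rfl h2, sum_const, hTcard, smul_eq_mul, mul_comm] at h1
  exact h1

/-- An element of the normalizer of `P` centralizing `y ∈ P` centralizes `P`, when the centralizer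
of `y` has a normal `p`-complement and `P` is abelian. -/
theorem mem_centralizer_of_complement (P : Sylow p G) (hab : IsMulCommutative (P : Subgroup G))
    {y n : G} (hy : y ∈ (P : Subgroup G))
    (hb : Cfsg.HasNormalPComplement p ↥(Subgroup.centralizer ({y} : Set G)))
    (hn : n ∈ Subgroup.normalizer ((P : Subgroup G) : Set G))
    (hny : n ∈ Subgroup.centralizer ({y} : Set G)) :
    n ∈ Subgroup.centralizer ((P : Subgroup G) : Set G) := by
  set C := Subgroup.centralizer ({y} : Set G) with hC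
  have hPC : (P : Subgroup G) ≤ C := fun a ha => Subgroup.mem_centralizer_singleton_iff.mpr
    (congrArg Subtype.val (hab.is_comm.comm ⟨a, ha⟩ ⟨y, hy⟩))
  obtain ⟨T, K, hK, hKT⟩ := hb
  set P' : Sylow p C := P.subtype hPC with hP'
  have hcard : Nat.card (P' : Subgroup C) = Nat.card (T : Subgroup C) := by
    rw [P'.card_eq_multiplicity, T.card_eq_multiplicity]
  have hcop : (Nat.card K).Coprime (Nat.card (P' : Subgroup C)) := by
    obtain ⟨t, ht⟩ := IsPGroup.iff_card.mp P'.isPGroup'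
    rw [ht]
    refine Nat.Coprime.pow_right t (hp.out.coprime_iff_not_dvd.mpr ?_).symm
    rw [← hKT.index_eq_card]
    exact T.not_dvd_index
  have hKP : K.IsComplement' (P' : Subgroup C) :=
    Subgroup.isComplement'_of_coprime (by rw [hcard]; exact hKT.card_mul) hcop
  obtain ⟨⟨⟨k, hk⟩, ⟨t, ht⟩⟩, hkt⟩ := hKP.2 ⟨n, hny⟩
  simp only at hkt
  have htP : ((t : C) : G) ∈ (P : Subgroup G) := ht
  have hnkt : n = (k : G) * (t : G) := (congrArg Subtype.val hkt).symm
  have hkN : (k : G) ∈ Subgroup.normalizer ((P : Subgroup G) : Set G) := by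
    rw [show (k : G) = n * (t : G)⁻¹ by rw [hnkt]; group]
    exact mul_mem hn (inv_mem (Subgroup.le_normalizer htP))
  rw [hnkt]
  refine mul_mem (Subgroup.mem_centralizer_iff.mpr fun a ha => ?_)
    (Subgroup.mem_centralizer_iff.mpr fun a ha =>
      congrArg Subtype.val (hab.is_comm.comm ⟨a, ha⟩ ⟨_, htP⟩))
  set a' : C := ⟨a, hPC ha⟩ with ha'
  have h1 : k * a' * k⁻¹ * a'⁻¹ ∈ K ⊓ (P' : Subgroup C) := by
    refine ⟨?_, ?_⟩
    · rw [mul_assoc, mul_assoc, ← mul_assoc a']
      exact K.mul_mem hk (hK.conj_mem _ (K.inv_mem hk) a')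
    · show (k : G) * a * (k : G)⁻¹ * a⁻¹ ∈ (P : Subgroup G)
      exact mul_mem ((Subgroup.mem_normalizer_iff.mp hkN a).mp ha) (inv_mem ha)
  rw [hKP.disjoint.eq_bot, Subgroup.mem_bot] at h1
  have h2 : (k : G) * a * (k : G)⁻¹ * a⁻¹ = 1 := congrArg Subtype.val h1
  rw [mul_inv_eq_one] at h2
  exact (mul_inv_eq_iff_eq_mul.mp h2).symm

/-- The bound `a ^ 3 / d ≤ a ^ 2 / 3` for `a ≤ q / 2`. -/
theorem cube_div_le_three {q a d : ℤ} (hd : 0 < d) (haq : 2 * a ≤ q) (hq : 0 < q)
    (hdvd : q ∣ d - a) (hne : d ≠ a) : (a : ℚ) ^ 3 / d ≤ (a : ℚ) ^ 2 / 3 := by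
  have hd' : (0 : ℚ) < d := by exact_mod_cast hd
  rw [div_le_div_iff₀ hd' three_pos]
  rcases le_or_gt a 0 with ha | ha
  · have h3 : (a : ℚ) ≤ 0 := by exact_mod_cast ha
    nlinarith [sq_nonneg (a : ℚ)]
  · have h3 : (3 : ℚ) * a ≤ d := by
      have := add_le_of_dvd hd (by omega) hdvd hne
      exact_mod_cast (show 3 * a ≤ d by omega)
    nlinarith [sq_nonneg (a : ℚ)]

open scoped Classical in
/-- No simple group: the counting contradiction. -/
theorem false_of_elementary [Fintype G] (P : Sylow p G) [Fintype (P : Subgroup G)]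
    (hab : IsMulCommutative (P : Subgroup G)) (hexp : ∀ a ∈ (P : Subgroup G), a ^ p = 1)
    (hconj : ∀ a ∈ (P : Subgroup G), ∀ b ∈ (P : Subgroup G), a ≠ 1 → b ≠ 1 → IsConj a b)
    (h : Free P) (hp3 : 3 ≤ p) (hq5 : 5 ≤ Nat.card P)
    (hgen : ∀ y z : G, orderOf y = p → orderOf z = p →
      IsPSolvable p ↥(Subgroup.closure ({y, z} : Set G)))
    (hsimple : ∀ t : G, t ≠ 1 → ∀ K : Subgroup G, K.Normal → t ∈ K → K = ⊤) : False := by
  obtain ⟨M, hM⟩ := Blocks88.exists_isPModular hp.out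
  have := isPrime hM
  have hord : ∀ a ∈ (P : Subgroup G), a ≠ 1 → orderOf a = p := fun a ha ha1 =>
    orderOf_eq_prime (hexp a ha) ha1
  obtain ⟨x, hx⟩ : ∃ x : (P : Subgroup G), x ≠ 1 := by
    haveI : Nontrivial (P : Subgroup G) := Finite.one_lt_card_iff_nontrivial.mp (by omega)
    exact exists_ne 1
  have hx1 : (x : G) ≠ 1 := fun h1 => hx (Subtype.ext h1)
  have hxp : orderOf (x : G) = p := hord x x.2 hx1
  have hallconj : ∀ g : G, orderOf g = p → IsConj (x : G) g := by
    intro g hg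
    obtain ⟨c, hc⟩ := exists_conj_mem P hg
    refine (hconj x x.2 _ hc hx1 fun h1 => ?_).trans (isConj_iff.mpr ⟨c⁻¹, by group⟩)
    exact ne_one_of_orderOf hg (conj_eq_one_iff.mp h1)
  set q : ℕ := Nat.card P with hq
  have herase : ((univ : Finset (P : Subgroup G)).erase 1).card = q - 1 := by
    rw [card_erase_of_mem (mem_univ _), card_univ, ← Nat.card_eq_fintype_card]
  -- the automizer is regular
  set e : ℕ := (Subgroup.centralizer ((P : Subgroup G) : Set G)).relIndex
    (Subgroup.normalizer ((P : Subgroup G) : Set G)) with hedef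
  have he : e = q - 1 := by
    have h1 := sum_isConj h x hx fun _ => (1 : ℂ)
    rw [sum_boole, sum_const, card_univ, ← Nat.card_eq_fintype_card, natCard_normalizer, nsmul_one,
      ← Nat.cast_mul, Nat.cast_inj] at h1
    rw [hedef, ← Nat.eq_of_mul_eq_mul_right Nat.card_pos h1, ← herase]
    congr 1
    ext v
    simp only [mem_filter, mem_univ, true_and, mem_erase, and_true]
    constructor
    · intro hv hv1
      rw [hv1, OneMemClass.coe_one] at hv
      first
        | exact hx1 (isConj_one_right.mp hv.symm)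
        | exact hx1 (isConj_one_left.mp hv)
    · exact fun hv => hconj x x.2 v v.2 hx1 fun h1 => hv (Subtype.ext h1)
  have hr : Fintype.card (Orb P) = 1 := by
    have h1 := card_orb_mul h
    rw [← hedef, ← hq, he] at h1
    exact Nat.eq_of_mul_eq_mul_right (by omega : 0 < q - 1) (h1.trans (one_mul _).symm)
  obtain ⟨o₀, ho₀⟩ := Fintype.card_eq_one_iff.mp hr
  set a : IrrCharacter G → ℤ := fun θ => -vecO θ o₀ with hadef
  have hval : ∀ θ : IrrCharacter G, ∀ y : (P : Subgroup G), y ≠ 1 →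
      (θ : G → ℂ) (y : G) = (a θ : ℂ) := fun θ y hy => by
    rw [apply_of_const h θ (vecO θ o₀) (fun o => by rw [ho₀ o]) hy, hadef, Int.cast_neg]
  have h1m : oneIrr G ∈ members M G := mem_members.mpr oneIrr_mem
  have hone : a (oneIrr G) = 1 := by rw [hadef]; simp [vecO_one h]
  have hgram : ∑ θ ∈ (members M G).erase (oneIrr G), a θ ^ 2 = (q : ℤ) - 1 := by
    have h1 := gram hM h o₀ o₀
    rw [if_pos rfl, ← add_sum_erase _ _ h1m, vecO_one h, ← hedef, he,
      Nat.cast_sub (by omega : 1 ≤ q)] at h1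
    rw [sum_congr rfl fun θ _ => show a θ ^ 2 = vecO θ o₀ * vecO θ o₀ by rw [hadef]; ring]
    push_cast at h1
    linarith
  set A : ℚ := ∑ θ ∈ (members M G).erase (oneIrr G),
    (a θ : ℚ) ^ 3 / ((charDegree (θ : G → ℂ) : ℤ) : ℚ) with hA
  -- the number of singular products
  set S : ℕ := ∑ y ∈ cls (x : G), ((ordp p G).filter fun z => p ∣ orderOf (y * z)).card with hS
  set F := prodFun p (x : G) with hF
  have hFS : ∑ g, F g * (if p ∣ orderOf g then (1 : ℂ) else 0) = (S : ℂ) := by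
    rw [hF, sum_prodFun_mul, hS, Nat.cast_sum]
    exact sum_congr rfl fun y _ => sum_boole _ _
  have hpt : ∀ g, F g * ∑ v ∈ (univ : Finset (P : Subgroup G)).erase 1, secInd p (v : G) g =
      ((q - 1 : ℕ) : ℂ) * (F g * if p ∣ orderOf g then 1 else 0) := by
    intro g
    by_cases hF0 : F g = 0
    · simp [hF0]
    obtain ⟨u, hu⟩ := exists_pPart hp.out g
    obtain ⟨w, hw, hcw, ⟨k, hk⟩, hwr⟩ := hu
    have hordg : orderOf g = p ^ k * orderOf w := by
      rw [← hw, hcw.orderOf_mul_eq_mul_orderOf_of_coprime (hk ▸ Nat.Coprime.pow_left _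
        (hp.out.coprime_iff_not_dvd.mpr hwr)), hk]
    obtain ⟨c, hc⟩ := conj_mem_of_pElement P hk
    have hu' : ∀ v : G, secInd p v g = if IsConj v u then 1 else 0 := fun v => by
      simp only [secInd]
      refine if_congr ⟨?_, fun hc => ⟨u, ⟨w, hw, hcw, ⟨k, hk⟩, hwr⟩, hc⟩⟩ rfl rfl
      rintro ⟨u', hu', hc⟩
      rwa [isPPart_unique hp.out (g := g) ⟨w, hw, hcw, ⟨k, hk⟩, hwr⟩ hu']
    simp only [hu']
    by_cases hu1 : u = 1
    · subst hu1
      rw [orderOf_one] at hk
      rw [← hk, one_mul] at hordg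
      rw [if_neg (hordg ▸ hwr), mul_zero, mul_zero, sum_eq_zero, mul_zero]
      intro v hv
      rw [if_neg]
      intro hcv
      have : (v : G) = 1 := by
        first
          | exact isConj_one_right.mp hcv.symm
          | exact isConj_one_left.mp hcv
      exact ne_of_mem_erase hv (Subtype.ext this)
    · have hc1 : c * u * c⁻¹ ≠ 1 := fun h1 => hu1 (conj_eq_one_iff.mp h1)
      rw [sum_congr rfl (g := fun _ => (1 : ℂ)) fun (v : (P : Subgroup G)) hv => if_pos ((hconj v v.2 _ hc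
          (fun h1 => ne_of_mem_erase hv (Subtype.ext h1)) hc1).trans
            (isConj_iff.mpr ⟨c⁻¹, by group⟩)),
        sum_const, herase, nsmul_one, if_pos, mul_one, mul_comm]
      rw [hordg]
      refine dvd_mul_of_dvd_left (dvd_pow_self p fun h0 => hu1 ?_) _
      rw [h0, pow_zero, orderOf_eq_one_iff] at hk
      exact hk
  set J : ℕ := (cls (x : G)).card with hJ
  set O : ℕ := (ordp p G).card with hO
  have hJ' : ((Subgroup.centralizer ({(x : G)} : Set G)).index : ℂ) = (J : ℂ) := by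
    rw [hJ, ← natCard_isConj (x : G), ← Nat.card_eq_finsetCard]
    exact_mod_cast Nat.card_congr (Equiv.subtypeEquivRight fun y => mem_cls.symm)
  have hordsum : ∀ θ : IrrCharacter G, ∑ z ∈ ordp p G, (θ : G → ℂ) z = (O : ℂ) * (a θ : ℂ) := by
    intro θ
    rw [sum_congr rfl (g := fun _ => (a θ : ℂ)) fun z hz => ?_, sum_const, nsmul_eq_mul]
    obtain ⟨c, hc⟩ := isConj_iff.mp (hallconj z (mem_ordp.mp hz))
    rw [← hc, irr_class θ, hval θ x hx]
  have hkey : (J : ℂ) * O * ∑ θ ∈ members M G, (a θ : ℂ) ^ 3 / (θ : G → ℂ) 1 = (q : ℂ) * S := by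
    have hq1 : ((q - 1 : ℕ) : ℂ) ≠ 0 := Nat.cast_ne_zero.mpr (by omega)
    refine mul_left_cancel₀ hq1 ?_
    calc ((q - 1 : ℕ) : ℂ) * ((J : ℂ) * O * ∑ θ ∈ members M G, (a θ : ℂ) ^ 3 / (θ : G → ℂ) 1)
        = ∑ v ∈ (univ : Finset (P : Subgroup G)).erase 1, (J : ℂ) * ∑ θ ∈ members M G,
            (θ : G → ℂ) x / (θ : G → ℂ) 1 * (∑ z ∈ ordp p G, (θ : G → ℂ) z) *
              (θ : G → ℂ) (v : G)⁻¹ := by
          symm
          rw [sum_congr rfl (g := fun _ => (J : ℂ) * O * ∑ θ ∈ members M G,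
            (a θ : ℂ) ^ 3 / (θ : G → ℂ) 1) fun v hv => ?_]
          · rw [sum_const, herase, nsmul_eq_mul]
          rw [mul_sum, mul_sum]
          refine sum_congr rfl fun θ _ => ?_
          rw [hordsum θ, hval θ x hx, show ((v : G))⁻¹ = ((v⁻¹ : (P : Subgroup G)) : G) from rfl,
            hval θ v⁻¹ (inv_ne_one.mpr (ne_of_mem_erase hv))]
          ring
      _ = ∑ v ∈ (univ : Finset (P : Subgroup G)).erase 1, (q : ℂ) * ∑ g, secInd p (v : G) g * F g :=
          sum_congr rfl fun v hv => by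
            rw [hq, hF, sum_secInd_prodFun hM h v.2
              (fun h1 => ne_of_mem_erase hv (Subtype.ext h1)) (x : G), hJ']
      _ = ((q - 1 : ℕ) : ℂ) * ((q : ℂ) * (S : ℂ)) := by
          rw [← mul_sum, sum_comm, ← hFS, mul_left_comm ((q - 1 : ℕ) : ℂ), mul_sum (a := ((q - 1 : ℕ) : ℂ))]
          exact congrArg _ (sum_congr rfl fun g _ => by
            rw [← hpt g, mul_sum]; exact sum_congr rfl fun v _ => mul_comm _ _)
  have hkey' : (J : ℚ) * O * (1 + A) = (q : ℚ) * S := by
    refine Rat.cast_injective (α := ℂ) ?_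
    rw [← add_sum_erase _ _ h1m, hone, sum_congr rfl fun θ _ => (cube_term θ (a θ)).symm,
      ← Rat.cast_sum, ← hA] at hkey
    simp only [coe_oneIrr, Int.cast_one, one_pow, div_one] at hkey
    push_cast
    linear_combination hkey
  have hSge : ((p : ℚ) - 2) * ((J : ℚ) * O) ≤ ((p : ℚ) - 1) * S := by
    have h1 : ∀ y ∈ cls (x : G), ((p : ℚ) - 2) * (O : ℚ) ≤
        ((p : ℚ) - 1) * (((ordp p G).filter fun z => p ∣ orderOf (y * z)).card : ℚ) := by
      intro y hy
      obtain ⟨d, hd⟩ := isConj_iff.mp (mem_cls.mp hy)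
      have hy' : orderOf y = p := by rw [← hd, ← MulAut.conj_apply, MulEquiv.orderOf_eq, hxp]
      have h2 : ((((ordp p G).filter fun z => ¬ p ∣ orderOf (y * z)).card * (p - 1) : ℕ) : ℚ) ≤
          (O : ℚ) := Nat.cast_le.mpr (card_regular_le P hab hgen hy')
      have h3 := congrArg (fun n : ℕ => (n : ℚ))
        (card_filter_add_card_filter_not (s := ordp p G) fun z => p ∣ orderOf (y * z))
      push_cast [Nat.cast_sub hp.out.one_le] at h2 h3
      rw [← hO] at h3
      nlinarith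
    rw [hS, Nat.cast_sum, mul_sum, hJ, mul_comm ((cls (x : G)).card : ℚ), ← mul_assoc,
      mul_comm _ ((cls (x : G)).card : ℚ), ← nsmul_eq_mul, ← sum_const]
    exact sum_le_sum h1
  -- the terms are small
  have hAle : A ≤ ((q : ℚ) - 1) / 3 := by
    have hsum : ∑ θ ∈ (members M G).erase (oneIrr G), (a θ : ℚ) ^ 2 = (q : ℚ) - 1 := by
      exact_mod_cast hgram
    rw [← hsum, sum_div]
    refine sum_le_sum fun θ hθ => cube_div_le_three (q := (q : ℤ)) (charDegree_pos_int θ) ?_
      (by omega) (dvd_degree_sub θ (a θ) (hval θ))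
      (value_ne_degree (ne_of_mem_erase hθ) (a θ) (hsimple x hx1) (hval θ x hx))
    have h1 : a θ ^ 2 ≤ (q : ℤ) - 1 :=
      hgram ▸ single_le_sum (fun i _ => sq_nonneg (a i)) hθ
    rcases le_or_gt (a θ) 1 with h2 | h2 <;> nlinarith
  have hJO : (0 : ℚ) < (J : ℚ) * O := by
    have h1 : 0 < J := card_pos.mpr ⟨x, mem_cls.mpr (IsConj.refl _)⟩
    have h2 : 0 < O := card_pos.mpr ⟨x, mem_ordp.mpr hxp⟩
    exact_mod_cast Nat.mul_pos h1 h2
  have hp1 : (0 : ℚ) < (p : ℚ) - 1 := by
    have : (3 : ℚ) ≤ p := by exact_mod_cast hp3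
    linarith
  have hmain : (q : ℚ) * ((p : ℚ) - 2) ≤ ((p : ℚ) - 1) * (1 + A) := by
    refine le_of_mul_le_mul_left ?_ hJO
    calc (J : ℚ) * O * ((q : ℚ) * ((p : ℚ) - 2)) = (q : ℚ) * (((p : ℚ) - 2) * ((J : ℚ) * O)) := by
          ring
      _ ≤ (q : ℚ) * (((p : ℚ) - 1) * S) := mul_le_mul_of_nonneg_left hSge (Nat.cast_nonneg q)
      _ = _ := by linear_combination -((p : ℚ) - 1) * hkey'
  have hq' : (5 : ℚ) ≤ q := by exact_mod_cast hq5
  have hp' : (3 : ℚ) ≤ p := by exact_mod_cast hp3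
  nlinarith [mul_le_mul_of_nonneg_left hAle hp1.le,
    mul_le_mul_of_nonneg_left hp' (show (0 : ℚ) ≤ q by linarith)]

/-- The theorem. -/
theorem eq_two_of_elementary [IsSimpleGroup G] (hG : ¬ IsMulCommutative G) (P : Sylow p G)
    (hP1 : (P : Subgroup G) ≠ ⊥) (hPe : Cfsg.IsElementaryAbelian p (P : Subgroup G))
    (hconj : ∀ x ∈ (P : Subgroup G), ∀ y ∈ (P : Subgroup G), x ≠ 1 → y ≠ 1 →
      ∃ g : G, g * x * g⁻¹ = y)
    (hb : ∀ x ∈ (P : Subgroup G), orderOf x = p →
      Cfsg.HasNormalPComplement p ↥(Subgroup.centralizer ({x} : Set G)))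
    (hc : ∀ x y : G, orderOf x = p → orderOf y = p →
      IsPSolvable p ↥(Subgroup.closure ({x, y} : Set G))) : p = 2 := by
  by_contra hp2
  have hp3 : 3 ≤ p := by have := hp.out.two_le; omega
  haveI := Fintype.ofFinite G
  haveI := Fintype.ofFinite (P : Subgroup G)
  haveI : Nontrivial (P : Subgroup G) := (Subgroup.nontrivial_iff_ne_bot _).mpr hP1
  obtain ⟨hab, hexp⟩ := hPe
  have hnorm : ∀ K : Subgroup G, K.Normal → K = ⊥ ∨ K = ⊤ := fun K hK =>
    IsSimpleGroup.eq_bot_or_eq_top_of_normal K hK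
  have hT : (P : Subgroup G) ≠ ⊤ := fun hT => hG ⟨⟨fun g g' => congrArg Subtype.val
    (hab.is_comm.comm ⟨g, hT ▸ Subgroup.mem_top g⟩ ⟨g', hT ▸ Subgroup.mem_top g'⟩)⟩⟩
  obtain ⟨n, hn0, hn⟩ := (P.isPGroup').nontrivial_iff_card.mp ‹_›
  rcases (show n = 1 ∨ 2 ≤ n by omega) with hn1 | hn1
  · -- a cyclic Sylow subgroup
    haveI : IsCyclic (P : Subgroup G) := isCyclic_of_prime_card (hn.trans (hn1 ▸ pow_one p))
    exact false_of_simple P (pairs_of_psolvable (hasCyc_of_one P ‹_›) hc) hP1 hT hnorm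
  · refine false_of_elementary P hab hexp
      (fun a ha b hb' ha1 hb1 => isConj_iff.mpr (hconj a ha b hb' ha1 hb1))
      ⟨hab, fun y hy hy1 => le_antisymm ?_ ?_⟩ hp3 ?_ hc fun t ht K hK htK =>
        (hnorm K hK).resolve_left fun h => ht (Subgroup.mem_bot.mp (h ▸ htK))
    · rintro m ⟨hm1, hm2⟩
      exact mem_centralizer_of_complement P hab hy
        (hb y hy (orderOf_eq_prime (hexp y hy) hy1)) hm2 hm1
    · exact le_inf (Subgroup.centralizer_le (Set.singleton_subset_iff.mpr hy))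
        (Subgroup.centralizer_le_normalizer _)
    · rw [hn]
      exact le_trans (by nlinarith) (Nat.pow_le_pow_right hp.out.pos hn1)

end Cfsg.Agent.PSolv92
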