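import Cfsg.Agent.PSolv92.Cases
import Cfsg.Agent.Blocks88.Modular
import Cfsg.Agent.Fusion91.Series.GroupFacts
import Mathlib.NumberTheory.Basic

/-!
# Cyclic Sylow subgroups and pairs of elements of order `p`
-/

set_option autoImplicit false
set_option linter.unusedSectionVars false

namespace Cfsg.Agent.PSolv92

open Cfsg Cfsg.Agent

variable {p : ℕ} [hp : Fact p.Prime]

/-- All Sylow subgroups are cyclic. -/
def HasCyc (p : ℕ) (G : Type*) [Group G] : Prop := ∀ T : Sylow p G, IsCyclic (T : Subgroup G)

variable {G : Type*} [Group G] [Finite G]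

theorem hasCyc_of_one (P : Sylow p G) (hP : IsCyclic (P : Subgroup G)) : HasCyc p G := fun T =>
  isCyclic_of_surjective (P.equiv T).toMonoidHom (P.equiv T).surjective

theorem HasCyc.subgroup (hc : HasCyc p G) (H : Subgroup G) : HasCyc p H := fun S => by
  obtain ⟨T, hT⟩ := (S.isPGroup'.map H.subtype).exists_le_sylow
  haveI := hc T
  haveI := Subgroup.isCyclic_of_le hT
  let e := Subgroup.equivMapOfInjective (S : Subgroup H) H.subtype H.subtype_injective
  exact isCyclic_of_surjective e.symm.toMonoidHom e.symm.surjective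

theorem HasCyc.quotient (hc : HasCyc p G) (N : Subgroup G) [N.Normal] : HasCyc p (G ⧸ N) :=
  fun T => by
  obtain ⟨S, rfl⟩ := Sylow.mapSurjective_surjective (QuotientGroup.mk'_surjective N) p T
  haveI := hc S
  rw [Sylow.coe_mapSurjective]
  exact isCyclic_of_surjective _ ((QuotientGroup.mk' N).subgroupMap_surjective (S : Subgroup G))

theorem zpowers_eq (hc : HasCyc p G) (T : Sylow p G) {a b : G} (ha : a ∈ (T : Subgroup G))
    (hb : b ∈ (T : Subgroup G)) (hab : orderOf a = orderOf b) :
    Subgroup.zpowers a = Subgroup.zpowers b := by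
  haveI := hc T
  haveI := Fintype.ofFinite G
  exact zpowers_eq_of_cyclic ha hb hab

/-- An element of order `p` of `O_p` generates a normal subgroup. -/
theorem normal_zpowers_of_mem_pCore (hc : HasCyc p G) {a : G} (ha : a ∈ pCore p G) :
    (Subgroup.zpowers a).Normal := by
  obtain ⟨T⟩ := (inferInstance : Nonempty (Sylow p G))
  refine ⟨fun b hb g => ?_⟩
  have h1 : Subgroup.zpowers (g * a * g⁻¹) = Subgroup.zpowers a :=
    zpowers_eq hc T (Thompson.pCore_le_sylow T (Thompson.instPCoreNormal.conj_mem a ha g))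
      (Thompson.pCore_le_sylow T ha) (by rw [← MulAut.conj_apply, MulEquiv.orderOf_eq])
  obtain ⟨k, rfl⟩ := Subgroup.mem_zpowers_iff.mp hb
  rw [← h1, ← conj_zpow]
  exact Subgroup.zpow_mem_zpowers _ k

theorem exists_orderOf_eq_pCore (h : pCore p G ≠ ⊥) : ∃ a ∈ pCore p G, orderOf a = p := by
  haveI : Nontrivial (pCore p G) := (Subgroup.nontrivial_iff_ne_bot _).mpr h
  obtain ⟨n, hn0, hn⟩ := (Thompson.isPGroup_pCore (G := G) (p := p)).nontrivial_iff_card.mp ‹_›
  obtain ⟨a, ha⟩ := exists_prime_orderOf_dvd_card' (G := pCore p G) p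
    (hn ▸ dvd_pow_self p hn0.ne')
  exact ⟨a, a.2, (Subgroup.orderOf_coe a).trans ha⟩

/-- A `p`-element normalising a Sylow subgroup lies in it. -/
theorem mem_of_mem_normalizer (P : Sylow p G) {c : G}
    (hc : c ∈ Subgroup.normalizer ((P : Subgroup G) : Set G))
    (hk : IsPGroup p (Subgroup.zpowers c)) : c ∈ (P : Subgroup G) := by
  have h1 : IsPGroup p (Subgroup.zpowers c ⊔ (P : Subgroup G) : Subgroup G) :=
    hk.to_sup_of_normal_right' P.isPGroup' (Subgroup.zpowers_le.mpr hc)
  rw [← P.is_maximal' h1 le_sup_right]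
  exact Subgroup.mem_sup_left (Subgroup.mem_zpowers c)

/-- An element of the normalizer of a cyclic Sylow subgroup fixing a nontrivial element centralizes
the subgroup. -/
theorem mem_centralizer_of_fix (P : Sylow p G) [IsCyclic (P : Subgroup G)] {n y : G}
    (hn : n ∈ Subgroup.normalizer ((P : Subgroup G) : Set G)) (hy : y ∈ (P : Subgroup G))
    (hy1 : y ≠ 1) (hfix : n * y = y * n) :
    n ∈ Subgroup.centralizer ((P : Subgroup G) : Set G) := by
  have hcomm : ∀ a ∈ (P : Subgroup G), ∀ b ∈ (P : Subgroup G), a * b = b * a := fun a ha b hb =>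
    congrArg Subtype.val
      ((IsCyclic.commGroup (α := (P : Subgroup G))).mul_comm ⟨a, ha⟩ ⟨b, hb⟩)
  obtain ⟨g, hg⟩ := IsCyclic.exists_generator (α := (P : Subgroup G))
  obtain ⟨k, hk⟩ := Subgroup.mem_zpowers_iff.mp
    (hg ⟨n * g * n⁻¹, (Subgroup.mem_normalizer_iff.mp hn _).mp g.2⟩)
  have hk' : n * (g : G) * n⁻¹ = (g : G) ^ k := by
    rw [← Subgroup.coe_zpow, hk]
  obtain ⟨j, hj⟩ := Subgroup.mem_zpowers_iff.mp (hg ⟨y, hy⟩)
  have hj' : y = (g : G) ^ j := by rw [← Subgroup.coe_zpow, hj]
  have hyk : y ^ (k - 1) = 1 := by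
    have h1 : n * y * n⁻¹ = y ^ k := by
      rw [hj', ← conj_zpow, hk', ← zpow_mul, ← zpow_mul, mul_comm]
    rw [hfix, mul_inv_cancel_right] at h1
    rw [zpow_sub, zpow_one, ← h1, mul_inv_cancel]
  -- so `k` is one modulo `p`
  have hpk : (p : ℤ) ∣ k - 1 := by
    obtain ⟨t, ht⟩ := IsPGroup.iff_orderOf.mp P.isPGroup' ⟨y, hy⟩
    rw [Subgroup.orderOf_mk] at ht
    have hd := orderOf_dvd_iff_zpow_eq_one.mpr hyk
    rw [ht] at hd
    refine dvd_trans ?_ hd
    match t, ht with
    | 0, ht => exact absurd (orderOf_eq_one_iff.mp (ht.trans (pow_zero p))) hy1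
    | s + 1, _ => exact_mod_cast dvd_pow_self p (Nat.succ_ne_zero s)
  obtain ⟨t, ht⟩ := IsPGroup.iff_orderOf.mp P.isPGroup' g
  -- a `p`-power of `n` centralizes
  have hconj : ∀ i : ℕ, n ^ i * (g : G) * (n ^ i)⁻¹ = (g : G) ^ (k ^ i) := by
    intro i
    induction i with
    | zero => simp
    | succ i ih =>
      calc n ^ (i + 1) * (g : G) * (n ^ (i + 1))⁻¹
          = n * (n ^ i * (g : G) * (n ^ i)⁻¹) * n⁻¹ := by rw [pow_succ']; group
        _ = ((g : G) ^ k) ^ (k ^ i) := by rw [ih, ← conj_zpow, hk']
        _ = (g : G) ^ (k ^ (i + 1)) := by rw [← zpow_mul, pow_succ']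
  have hcen : ∀ m : G, m * (g : G) * m⁻¹ = g →
      m ∈ Subgroup.centralizer ((P : Subgroup G) : Set G) := by
    intro m hm
    refine Subgroup.mem_centralizer_iff.mpr fun a ha => ?_
    obtain ⟨i, hi⟩ := Subgroup.mem_zpowers_iff.mp (hg ⟨a, ha⟩)
    have : a = (g : G) ^ i := by rw [← Subgroup.coe_zpow, hi]
    rw [this]
    exact (Commute.zpow_left (Commute.symm (mul_inv_eq_iff_eq_mul.mp hm)) i)
  have h1 : n ^ (p ^ t) ∈ Subgroup.centralizer ((P : Subgroup G) : Set G) := by
    refine hcen _ ?_
    rw [hconj]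
    have hd : ((p : ℤ) ^ (t + 1)) ∣ k ^ (p ^ t) - 1 := by
      simpa using dvd_sub_pow_of_dvd_sub (b := (1 : ℤ)) hpk t
    obtain ⟨u, hu⟩ := (pow_dvd_pow (p : ℤ) (Nat.le_succ t)).trans hd
    rw [show k ^ (p ^ t) = ((p ^ t : ℕ) : ℤ) * u + 1 by push_cast; linarith, zpow_add, zpow_mul,
      zpow_natCast, ← ht, ← Subgroup.orderOf_coe g, pow_orderOf_eq_one,
      one_zpow, one_mul, zpow_one]
  obtain ⟨a, m, hm, hord⟩ := Nat.exists_eq_pow_mul_and_not_dvd (orderOf_pos n).ne' p hp.out.ne_one
  have h2 : n ^ m ∈ Subgroup.centralizer ((P : Subgroup G) : Set G) := by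
    have hmem : n ^ m ∈ (P : Subgroup G) := by
      refine mem_of_mem_normalizer P (pow_mem hn m) (IsPGroup.of_card (n := a) ?_)
      have hm0 : m ≠ 0 := fun h0 => hm (by rw [h0]; exact dvd_zero p)
      rw [Nat.card_zpowers, orderOf_pow_of_dvd hm0 (by rw [hord]; exact dvd_mul_left m _),
        hord, Nat.mul_div_cancel _ (Nat.pos_of_ne_zero hm0)]
    exact Subgroup.mem_centralizer_iff.mpr fun b hb => hcomm b hb _ hmem
  have hco : Nat.Coprime (p ^ t) m := Nat.Coprime.pow_left t (hp.out.coprime_iff_not_dvd.mpr hm)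
  have hb := Int.gcd_eq_gcd_ab ((p ^ t : ℕ) : ℤ) (m : ℤ)
  rw [Int.gcd_natCast_natCast, hco.gcd_eq_one, Nat.cast_one] at hb
  rw [← zpow_one n, hb, zpow_add, zpow_mul, zpow_mul, zpow_natCast, zpow_natCast]
  exact mul_mem (zpow_mem h1 _) (zpow_mem h2 _)

/-- In a `p`-solvable group with trivial `O_{p'}` and cyclic Sylow subgroups the elements of order
`p` generate one subgroup of order `p`. -/
theorem zpowers_eq_of_psolvable (hc : HasCyc p G) (hs : IsPSolvable p G)
    (hO : pPrimeCore p G = ⊥) {a b : G} (ha : orderOf a = p) (hb : orderOf b = p) :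
    Subgroup.zpowers a = Subgroup.zpowers b := by
  haveI : Nontrivial G := ⟨⟨a, 1, fun h => hp.out.ne_one (by rw [← ha, h, orderOf_one])⟩⟩
  obtain ⟨c, hcR, hcp⟩ := exists_orderOf_eq_pCore
    ((Thompson.pCore_ne_bot_or_pPrimeCore_ne_bot hs).resolve_right (not_not.mpr hO))
  have key : ∀ t : G, orderOf t = p → Subgroup.zpowers t = Subgroup.zpowers c := by
    intro t ht
    obtain ⟨T, hT⟩ := (IsPGroup.of_card (n := 1) (by rw [Nat.card_zpowers, ht, pow_one]) :
      IsPGroup p (Subgroup.zpowers t)).exists_le_sylow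
    exact zpowers_eq hc T (hT (Subgroup.mem_zpowers t)) (Thompson.pCore_le_sylow T hcR)
      (ht.trans hcp.symm)
  rw [key a ha, key b hb]

theorem pairs_of_psolvable (hc : HasCyc p G)
    (hgen : ∀ y z : G, orderOf y = p → orderOf z = p →
      IsPSolvable p ↥(Subgroup.closure ({y, z} : Set G))) : Pairs p G := by
  intro y z hy hz
  set K := Subgroup.closure ({y, z} : Set G)
  set O := pPrimeCore p K with hOdef
  set π := QuotientGroup.mk' O with hπ
  have hO := Thompson.card_pPrimeCore_coprime (G := K) (p := p)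
  have hcQ := (hc.subgroup K).quotient O
  have hsQ : IsPSolvable p (K ⧸ O) := Thompson.isPSolvable_quotient O (hgen y z hy hz)
  have hOQ : pPrimeCore p (K ⧸ O) = ⊥ := Thompson.pPrimeCore_quotient_pPrimeCore
  have hne : ∀ w : K, orderOf w = p → orderOf (π w) = p := by
    intro w hw
    refine (hp.out.eq_one_or_self_of_dvd _ (hw ▸ orderOf_map_dvd π w)).resolve_left fun h1 => ?_
    have hwO : w ∈ O := (QuotientGroup.eq_one_iff w).mp (orderOf_eq_one_iff.mp h1)
    have hd := Subgroup.orderOf_dvd_natCard _ hwO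
    rw [hw] at hd
    exact hp.out.coprime_iff_not_dvd.mp hO.symm hd
  set y' : K := ⟨y, Subgroup.subset_closure (by simp)⟩
  set z' : K := ⟨z, Subgroup.subset_closure (by simp)⟩
  have hy' : orderOf (π y') = p := hne y' (by rw [← Subgroup.orderOf_coe]; exact hy)
  have hz' : orderOf (π z') = p := hne z' (by rw [← Subgroup.orderOf_coe]; exact hz)
  have htop : Subgroup.zpowers (π y') = ⊤ := by
    rw [eq_top_iff, ← Subgroup.map_top_of_surjective π (QuotientGroup.mk'_surjective O),
      ← Subgroup.closure_closure_coe_preimage (k := ({y, z} : Set G)), MonoidHom.map_closure,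
      Subgroup.closure_le]
    rintro _ ⟨w, hw, rfl⟩
    rcases (show (w : G) = y ∨ (w : G) = z by simpa using hw) with h | h
    · rw [show w = y' from Subtype.ext h]
      exact Subgroup.mem_zpowers _
    · rw [show w = z' from Subtype.ext h, SetLike.mem_coe,
        zpowers_eq_of_psolvable hcQ hsQ hOQ hy' hz']
      exact Subgroup.mem_zpowers _
  have hcard : Nat.card (K ⧸ O) = p := by
    rw [← Subgroup.card_top, ← htop, Nat.card_zpowers, hy']
  let e : K ⧸ O ≃* Multiplicative (ZMod p) := mulEquivOfPrimeCardEq hcard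
    ((Nat.card_congr Multiplicative.toAdd).trans (Nat.card_zmod p))
  refine ⟨e.toMonoidHom.comp π, fun w hw hd => ?_, fun w hw h1 => ?_⟩
  · have hwO : w ∈ O := (QuotientGroup.eq_one_iff w).mp (e.injective (hw.trans (map_one e).symm))
    exact hp.out.coprime_iff_not_dvd.mp hO.symm
      (hd.trans (Subgroup.orderOf_dvd_natCard _ hwO))
  · have hwp : orderOf w = p := by
      rw [← Subgroup.orderOf_coe]
      rcases hw with h | h <;> rw [h] <;> assumption
    have h2 := hne w hwp
    rw [show π w = 1 from e.injective (h1.trans (map_one e).symm), orderOf_one] at h2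
    exact hp.out.ne_one h2.symm

/-- No simple group has the pair property and is not `p`-solvable. -/
theorem false_of_simple (P : Sylow p G) [IsCyclic (P : Subgroup G)] (hG : Pairs p G)
    (hP : (P : Subgroup G) ≠ ⊥) (hP' : (P : Subgroup G) ≠ ⊤)
    (hnorm : ∀ K : Subgroup G, K.Normal → K = ⊥ ∨ K = ⊤) : False := by
  haveI := Fintype.ofFinite G
  haveI := Fintype.ofFinite (P : Subgroup G)
  obtain ⟨M, hM⟩ := Blocks88.exists_isPModular hp.out
  have hfree : BlocksCore.AbelianPrincipal.Free P := by
    letI := IsCyclic.commGroup (α := (P : Subgroup G))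
    refine ⟨⟨⟨fun a b => mul_comm a b⟩⟩, fun y hy hy1 => le_antisymm ?_ ?_⟩
    · rintro n ⟨hn1, hn2⟩
      exact mem_centralizer_of_fix P hn2 hy hy1 (Subgroup.mem_centralizer_singleton_iff.mp hn1)
    · exact le_inf (Subgroup.centralizer_le (Set.singleton_subset_iff.mpr hy))
        (Subgroup.centralizer_le_normalizer _)
  haveI : Nontrivial (P : Subgroup G) := (Subgroup.nontrivial_iff_ne_bot _).mpr hP
  obtain ⟨n, hn0, hn⟩ := (P.isPGroup').nontrivial_iff_card.mp ‹_›
  obtain ⟨x, hx⟩ := exists_prime_orderOf_dvd_card' (G := (P : Subgroup G)) p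
    (hn ▸ dvd_pow_self p hn0.ne')
  have hgen : ∀ t : G, t ≠ 1 → ∀ K : Subgroup G, K.Normal → t ∈ K → K = ⊤ := fun t ht K hK htK =>
    (hnorm K hK).resolve_left fun h => ht (Subgroup.mem_bot.mp (h ▸ htK))
  refine false_of_free hM hfree hG hgen (x := x) (by rw [Subgroup.orderOf_coe]; exact hx) ?_
  by_contra hlt
  have h1 : (Subgroup.centralizer ((P : Subgroup G) : Set G)).relIndex
      (Subgroup.normalizer ((P : Subgroup G) : Set G)) = 1 := by
    have h2 : (Subgroup.centralizer ((P : Subgroup G) : Set G)).relIndex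
      (Subgroup.normalizer ((P : Subgroup G) : Set G)) ≠ 0 := fun h0 => by
      have := BlocksCore.AbelianPrincipal.natCard_normalizer (P := P)
      rw [h0, zero_mul] at this
      exact Nat.card_pos.ne' this
    omega
  have hNC := Subgroup.relIndex_eq_one.mp h1
  have hK := MonoidHom.ker_transferSylow_isComplement' P hNC
  rcases hnorm _ (MonoidHom.normal_ker (MonoidHom.transferSylow P hNC)) with hb | ht
  · rw [hb] at hK
    exact hP' (Subgroup.isComplement'_bot_left.mp hK)
  · rw [ht] at hK
    exact hP (Subgroup.isComplement'_top_left.mp hK)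

/-- The induction. -/
theorem isPSolvable_of_pairs :
    ∀ (n : ℕ) {G : Type*} [Group G] [Finite G], Nat.card G = n → HasCyc p G →
      (∀ y z : G, orderOf y = p → orderOf z = p →
        IsPSolvable p ↥(Subgroup.closure ({y, z} : Set G))) → IsPSolvable p G := by
  intro n
  induction n using Nat.strong_induction_on with
  | _ n ih =>
    intro G _ _ hn hc hgen
    have hsub : ∀ H : Subgroup G, H ≠ ⊤ → IsPSolvable p H := by
      intro H hH
      refine ih (Nat.card H) ?_ rfl (hc.subgroup H) fun a b ha hb => ?_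
      · rw [← hn]
        exact lt_of_le_of_ne (Subgroup.card_le_card_group H)
          fun h => hH (Subgroup.eq_top_of_card_eq H h)
      · have e := Subgroup.equivMapOfInjective (Subgroup.closure ({a, b} : Set H)) H.subtype
          H.subtype_injective
        have hmap : (Subgroup.closure ({a, b} : Set H)).map H.subtype =
            Subgroup.closure ({(a : G), (b : G)} : Set G) := by
          rw [MonoidHom.map_closure, Set.image_pair]
          rfl
        rw [hmap] at e
        exact Thompson.isPSolvable_of_equiv e.symm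
          (hgen _ _ (by rw [Subgroup.orderOf_coe]; exact ha) (by rw [Subgroup.orderOf_coe]; exact hb))
    by_cases hO : pPrimeCore p G = ⊥
    swap
    · set O := pPrimeCore p G with hOdef
      set π := QuotientGroup.mk' O with hπ
      have hOc := Thompson.card_pPrimeCore_coprime (G := G) (p := p)
      refine Thompson.isPSolvable_of_quotient O (Or.inr hOc) (ih _ ?_ rfl (hc.quotient O) ?_)
      · rw [← hn, Subgroup.card_eq_card_quotient_mul_card_subgroup O]
        exact lt_mul_of_one_lt_right Nat.card_pos ((Subgroup.one_lt_card_iff_ne_bot O).mpr hO)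
      · intro a b ha hb
        have lift : ∀ a : G ⧸ O, orderOf a = p → ∃ a' : G, π a' = a ∧ orderOf a' = p := by
          intro a ha
          obtain ⟨c, hca⟩ := QuotientGroup.mk'_surjective O a
          have hcp : c ^ p ∈ O := by
            rw [← QuotientGroup.eq_one_iff]
            show π (c ^ p) = 1
            rw [map_pow, hca]
            exact orderOf_dvd_iff_pow_eq_one.mp ha.dvd
          have hcm : (c ^ p) ^ Nat.card O = 1 :=
            orderOf_dvd_iff_pow_eq_one.mp (Subgroup.orderOf_dvd_natCard _ hcp)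
          obtain ⟨j, hj⟩ := Nat.exists_mul_mod_eq_one_of_coprime hOc hp.out.one_lt
          have hcj : π (c ^ (Nat.card O * j)) = a := by
            rw [map_pow, hca]
            conv_rhs => rw [← pow_one a]
            rw [pow_eq_pow_iff_modEq, ha]
            show _ % p = 1 % p
            rw [hj.2, Nat.mod_eq_of_lt hp.out.one_lt]
          refine ⟨c ^ (Nat.card O * j), hcj, orderOf_eq_prime ?_ fun h1 => ?_⟩
          · rw [← pow_mul, show Nat.card O * j * p = p * Nat.card O * j by ring, pow_mul, pow_mul,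
              hcm, one_pow]
          · rw [h1, map_one] at hcj
            rw [← hcj, orderOf_one] at ha
            exact hp.out.ne_one ha.symm
        obtain ⟨a', rfl, ha'⟩ := lift a ha
        obtain ⟨b', rfl, hb'⟩ := lift b hb
        rw [← Set.image_pair, ← MonoidHom.map_closure]
        exact Thompson.isPSolvable_of_surjective _
          (π.subgroupMap_surjective _) (hgen a' b' ha' hb')
    by_cases hpd : p ∣ Nat.card G
    swap
    · exact Thompson.isPSolvable_of_coprime (hp.out.coprime_iff_not_dvd.mpr hpd).symm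
    by_cases hnorm : ∀ K : Subgroup G, K.Normal → K = ⊥ ∨ K = ⊤
    · by_contra hns
      obtain ⟨P⟩ := (inferInstance : Nonempty (Sylow p G))
      haveI := hc P
      refine false_of_simple P (pairs_of_psolvable hc hgen) (P.ne_bot_of_dvd_card hpd) ?_ hnorm
      intro hT
      refine hns (Thompson.isPSolvable_of_isPGroup ?_)
      have := P.isPGroup'
      rw [hT] at this
      exact this.of_equiv Subgroup.topEquiv
    push Not at hnorm
    obtain ⟨N, hN, hNb, hNt⟩ := hnorm
    have hNs := hsub N hNt
    haveI : Nontrivial N := (Subgroup.nontrivial_iff_ne_bot N).mpr hNb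
    have hcore : pCore p G ≠ ⊥ := by
      rcases Thompson.pCore_ne_bot_or_pPrimeCore_ne_bot hNs with h | h
      · intro hb
        refine h ((Subgroup.map_eq_bot_iff_of_injective _ N.subtype_injective).mp (le_bot_iff.mp ?_))
        rw [← hb]
        exact Thompson.le_pCore (Thompson.map_subtype_normal_of_characteristic N _)
          (Thompson.isPGroup_pCore.map _)
      · refine absurd ((Subgroup.map_eq_bot_iff_of_injective _ N.subtype_injective).mp
          (le_bot_iff.mp ?_)) h
        rw [← hO]
        refine Thompson.le_pPrimeCore (Thompson.map_subtype_normal_of_characteristic N _) ?_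
        rw [Subgroup.card_map_of_injective N.subtype_injective]
        exact Thompson.card_pPrimeCore_coprime
    obtain ⟨x, hxR, hxp⟩ := exists_orderOf_eq_pCore hcore
    haveI hXn := normal_zpowers_of_mem_pCore hc hxR
    set C := Subgroup.centralizer ((Subgroup.zpowers x : Subgroup G) : Set G) with hC
    haveI : C.Normal := Subgroup.normal_centralizer
    by_cases hCt : C = ⊤
    · -- `x` is central
      obtain ⟨P⟩ := (inferInstance : Nonempty (Sylow p G))
      haveI := hc P
      have hNC : Subgroup.normalizer ((P : Subgroup G) : Set G) ≤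
          Subgroup.centralizer ((P : Subgroup G) : Set G) := fun m hm => by
        refine mem_centralizer_of_fix P hm (Thompson.pCore_le_sylow P hxR)
          (fun h1 => hp.out.ne_one (by rw [← hxp, h1, orderOf_one])) ?_
        exact (Subgroup.mem_centralizer_iff.mp (hCt ▸ Subgroup.mem_top m : m ∈ C) x
          (Subgroup.mem_zpowers x)).symm
      have hK := MonoidHom.ker_transferSylow_isComplement' P hNC
      have hKbot : (MonoidHom.transferSylow P hNC).ker = ⊥ := by
        rw [eq_bot_iff, ← hO]
        exact Thompson.le_pPrimeCore (MonoidHom.normal_ker _)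
          (hp.out.coprime_iff_not_dvd.mpr (MonoidHom.not_dvd_card_ker_transferSylow P hNC)).symm
      rw [hKbot] at hK
      refine Thompson.isPSolvable_of_isPGroup ?_
      have := P.isPGroup'
      rw [Subgroup.isComplement'_bot_left.mp hK] at this
      exact this.of_equiv Subgroup.topEquiv
    · refine Fusion91.Series.isPSolvable_of_normal (Nat.card G) rfl C (hsub C hCt) (Or.inr ?_)
      obtain ⟨P⟩ := (inferInstance : Nonempty (Sylow p G))
      haveI := hc P
      letI := IsCyclic.commGroup (α := (P : Subgroup G))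
      refine (hp.out.coprime_iff_not_dvd.mpr fun hd => P.not_dvd_index (hd.trans
        (Subgroup.index_dvd_of_le fun a ha => ?_))).symm
      refine Subgroup.mem_centralizer_iff.mpr fun b hb => ?_
      exact congrArg Subtype.val (mul_comm
        (⟨b, (Subgroup.zpowers_le.mpr (Thompson.pCore_le_sylow P hxR)) hb⟩ : (P : Subgroup G))
        ⟨a, ha⟩)

theorem iff_pairs (P : Sylow p G) (hP : IsCyclic (P : Subgroup G)) :
    IsPSolvable p G ↔ ∀ x y : G, orderOf x = p → orderOf y = p →
      IsPSolvable p ↥(Subgroup.closure ({x, y} : Set G)) :=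
  ⟨fun h _ _ _ _ => Thompson.isPSolvable_subgroup _ h,
    fun h => isPSolvable_of_pairs (Nat.card G) rfl (hasCyc_of_one P hP) h⟩

end Cfsg.Agent.PSolv92
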