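import Cfsg.Agent.PSolv92.Sections

/-!
# Sums over orbits of linear characters of a cyclic Sylow subgroup
-/

set_option autoImplicit false
set_option linter.unusedSectionVars false

namespace Cfsg.Agent.PSolv92

open Cfsg Cfsg.Agent.BlocksCore Cfsg.Agent.BlocksDefect Finset
open AbelianPrincipal CyclicPrincipal AbelianShape
open AbelianThree (orbSum orbSum_mul_cent sum_dual_ne_one)

variable {G : Type*} [Group G] [Fintype G] {p : ℕ} [hp : Fact p.Prime] {M : Ideal AlgInt}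
  {P : Sylow p G} [Fintype (P : Subgroup G)]

set_option quotPrecheck false in
local notation "eN" => Subgroup.relIndex (Subgroup.centralizer ((P : Subgroup G) : Set G))
  (Subgroup.normalizer ((P : Subgroup G) : Set G))

theorem rel_ne_one {φ ψ : Dual P} (hψ : ψ ≠ 1) (hr : Rel φ ψ) : φ ≠ 1 := by
  rintro rfl
  obtain ⟨n, hn⟩ := rel_symm hr
  rw [MonoidHom.one_comp] at hn
  exact hψ hn.symm

open scoped Classical in
theorem sum_orb_mul (h : Free P) (F : Orb P → ℂ) (g : Dual P → ℂ)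
    (hg : ∀ ψ (hψ : ψ ≠ 1), g ψ = F (orb ψ hψ)) :
    ∑ ψ ∈ univ.erase (1 : Dual P), g ψ = (eN : ℂ) * ∑ o : Orb P, F o := by
  rw [Finset.sum_subtype (univ.erase (1 : Dual P)) (p := fun ψ => ψ ≠ 1) (by simp) g,
    ← Finset.sum_fiberwise univ (fun ψ : {ψ : Dual P // ψ ≠ 1} => Quotient.mk (setoid P) ψ),
    Finset.mul_sum]
  refine Finset.sum_congr rfl fun o _ => ?_
  rw [Finset.sum_congr rfl (g := fun _ => F o) fun ψ hψ => by
    rw [hg ψ.1 ψ.2, ← (mem_filter.mp hψ).2], Finset.sum_const, nsmul_eq_mul]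
  congr 1
  obtain ⟨⟨ψ, hψ⟩, rfl⟩ := Quotient.exists_rep o
  rw [← card_orbit h hψ, Nat.cast_inj]
  refine Finset.card_bij (fun φ _ => φ.1)
    (fun φ hφ => mem_filter.mpr ⟨mem_univ _, Quotient.exact (mem_filter.mp hφ).2⟩)
    (fun a _ b _ hab => Subtype.ext hab) fun φ hφ => ?_
  have hrel := (mem_filter.mp hφ).2
  exact ⟨⟨φ, rel_ne_one hψ hrel⟩, mem_filter.mpr ⟨mem_univ _, Quotient.sound hrel⟩, rfl⟩

open scoped Classical in
theorem sum_orbSum (h : Free P) {y : (P : Subgroup G)} (hy : y ≠ 1) :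
    ∑ ψ ∈ univ.erase (1 : Dual P), orbSum ψ y = -(eN : ℂ) := by
  have hc : (Nat.card (Subgroup.centralizer ((P : Subgroup G) : Set G)) : ℂ) ≠ 0 :=
    Nat.cast_ne_zero.mpr Nat.card_pos.ne'
  refine mul_right_cancel₀ hc ?_
  rw [Finset.sum_mul, Finset.sum_congr rfl fun ψ hψ => orbSum_mul_cent h (ne_of_mem_erase hψ) y,
    Finset.sum_comm, Finset.sum_congr rfl (g := fun _ => (-1 : ℂ)) (fun n _ =>
      sum_dual_ne_one h (fun h1 => hy ?_)), Finset.sum_const, card_univ, nsmul_eq_mul,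
    ← Nat.card_eq_fintype_card, natCard_normalizer]
  · push_cast; ring
  · have h2 := congrArg Subtype.val h1
    rw [coe_cj, OneMemClass.coe_one, conj_eq_one_iff] at h2
    exact Subtype.ext h2

open scoped Classical in
theorem sum_erase_orbSum (h : Free P) {ψ : Dual P} (hψ : ψ ≠ 1) :
    ∑ y ∈ univ.erase (1 : (P : Subgroup G)), orbSum ψ y = -(eN : ℂ) := by
  unfold orbSum
  rw [Finset.sum_comm, Finset.sum_congr rfl (g := fun _ => (-1 : ℂ)) fun φ hφ => ?_,
    Finset.sum_const, nsmul_eq_mul, card_orbit h hψ]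
  · ring
  · rw [Finset.sum_erase_eq_sub (mem_univ _), AbelianPrincipal.sum_apply,
      if_neg (rel_ne_one hψ (mem_filter.mp hφ).2)]
    simp

theorem orbSum_one (h : Free P) {ψ : Dual P} (hψ : ψ ≠ 1) :
    orbSum ψ (1 : (P : Subgroup G)) = (eN : ℂ) := by
  classical
  simp [orbSum, card_orbit h hψ]

theorem orbSum_congr {ψ : Dual P} {v w : (P : Subgroup G)}
    (hvw : ∀ φ : Dual P, Rel φ ψ → φ v = φ w) : orbSum ψ v = orbSum ψ w := by
  classical
  exact sum_congr rfl fun φ hφ => by rw [hvw φ (mem_filter.mp hφ).2]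

variable [hcyc : IsCyclic (P : Subgroup G)]

theorem sylOrd_subset_erase :
    ∀ v ∈ sylOrd P, v ≠ (1 : (P : Subgroup G)) := fun v hv h1 =>
  ne_one_of_orderOf (mem_sylOrd.mp hv) (by rw [h1]; rfl)

variable {x : (P : Subgroup G)}

/-- A character trivial at `x` is trivial at all elements of order `p`. -/
theorem apply_sylOrd (hxp : orderOf (x : G) = p) {φ : Dual P} (hφ : φ x = 1)
    {v : (P : Subgroup G)} (hv : v ∈ sylOrd P) : φ v = 1 := by
  have h1 : Subgroup.zpowers v = Subgroup.zpowers x := by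
    have := zpowers_eq_of_cyclic v.2 x.2 ((mem_sylOrd.mp hv).trans hxp.symm)
    refine Subgroup.map_injective (P : Subgroup G).subtype_injective ?_
    rw [MonoidHom.map_zpowers, MonoidHom.map_zpowers]
    exact this
  obtain ⟨k, hk⟩ := Subgroup.mem_zpowers_iff.mp (h1 ▸ Subgroup.mem_zpowers v)
  rw [← hk, map_zpow, hφ, one_zpow]

open scoped Classical in
/-- A character nontrivial at `x` sums to `-1` over the elements of order `p`. -/
theorem sum_sylOrd_eq (h : Free P) (hxp : orderOf (x : G) = p) {φ : Dual P} (hφ : φ x ≠ 1) :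
    ∑ v ∈ sylOrd P, ((φ v : ℂˣ) : ℂ) = -1 := by
  set K := (univ : Finset (P : Subgroup G)).filter fun v => v ^ p = 1 with hK
  have hins : K = insert 1 (sylOrd P) := by
    ext v
    simp only [hK, mem_filter, mem_univ, true_and, mem_insert, mem_sylOrd, Subgroup.orderOf_coe]
    rw [← orderOf_dvd_iff_pow_eq_one, Nat.dvd_prime hp.out, orderOf_eq_one_iff]
  have hxK : x ^ p = 1 := by
    rw [← orderOf_dvd_iff_pow_eq_one, ← Subgroup.orderOf_coe, hxp]
  have hmul : ∀ a b : (P : Subgroup G), a ∈ K → b ∈ K → a * b ∈ K := by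
    intro a b ha hb
    have hcomm : Commute a b := h.comm.is_comm.comm a b
    simp only [hK, mem_filter, mem_univ, true_and] at ha hb ⊢
    rw [hcomm.mul_pow, ha, hb, mul_one]
  have hxK' : x ∈ K := mem_filter.mpr ⟨mem_univ _, hxK⟩
  have hxi : x⁻¹ ∈ K := mem_filter.mpr ⟨mem_univ _, by rw [inv_pow, hxK, inv_one]⟩
  have h1 : ((φ x : ℂˣ) : ℂ) * ∑ v ∈ K, ((φ v : ℂˣ) : ℂ) = ∑ v ∈ K, ((φ v : ℂˣ) : ℂ) := by
    rw [mul_sum]
    exact sum_nbij' (fun v => x * v) (fun v => x⁻¹ * v) (fun v hv => hmul _ _ hxK' hv)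
      (fun v hv => hmul _ _ hxi hv) (fun v _ => inv_mul_cancel_left x v)
      (fun v _ => mul_inv_cancel_left x v) (fun v _ => by rw [map_mul, Units.val_mul])
  have h2 : ∑ v ∈ K, ((φ v : ℂˣ) : ℂ) = 0 := by
    have h3 : (((φ x : ℂˣ) : ℂ) - 1) * ∑ v ∈ K, ((φ v : ℂˣ) : ℂ) = 0 := by
      rw [sub_mul, one_mul, h1, sub_self]
    exact (mul_eq_zero.mp h3).resolve_left
      (sub_ne_zero.mpr fun he => hφ (Units.ext (he.trans Units.val_one.symm)))
  rw [hins, sum_insert fun h1 => sylOrd_subset_erase 1 h1 rfl, map_one, Units.val_one] at h2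
  linear_combination h2

theorem rel_apply_iff (hxp : orderOf (x : G) = p) {φ ψ : Dual P} (hr : Rel φ ψ) :
    φ x = 1 ↔ ψ x = 1 := by
  suffices key : ∀ φ ψ : Dual P, Rel φ ψ → ψ x = 1 → φ x = 1 from
    ⟨key ψ φ (rel_symm hr), key φ ψ hr⟩
  rintro φ ψ ⟨n, rfl⟩ hψ
  refine apply_sylOrd hxp hψ (mem_sylOrd.mpr ?_)
  rw [coe_cj, ← MulAut.conj_apply, MulEquiv.orderOf_eq, hxp]

open scoped Classical in
theorem sum_sylOrd_orbSum (h : Free P) (hxp : orderOf (x : G) = p) {ψ : Dual P} (hψ : ψ ≠ 1) :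
    ∑ v ∈ sylOrd P, orbSum ψ v =
      if ψ x = 1 then (eN : ℂ) * ((p : ℂ) - 1) else -(eN : ℂ) := by
  unfold orbSum
  rw [Finset.sum_comm]
  split_ifs with hx1
  · rw [sum_congr rfl (g := fun _ => ((p : ℂ) - 1)) fun φ hφ => ?_, sum_const, nsmul_eq_mul,
      card_orbit h hψ]
    rw [sum_congr rfl (g := fun _ => (1 : ℂ)) fun v hv => by
      rw [apply_sylOrd hxp ((rel_apply_iff hxp (mem_filter.mp hφ).2).mpr hx1) hv, Units.val_one],
      sum_const, card_sylOrd x.2 hxp, nsmul_one, Nat.cast_sub hp.out.one_le, Nat.cast_one]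
  · rw [sum_congr rfl (g := fun _ => (-1 : ℂ)) fun φ hφ => ?_, sum_const, nsmul_eq_mul,
      card_orbit h hψ]
    · ring
    · exact sum_sylOrd_eq h hxp fun h1 => hx1 ((rel_apply_iff hxp (mem_filter.mp hφ).2).mp h1)

theorem orbSum_eq (h : Free P) (hxp : orderOf (x : G) = p) {ψ : Dual P} (hψ : ψ ≠ 1)
    (hx1 : ψ x = 1) : orbSum ψ x = (eN : ℂ) := by
  rw [← orbSum_one h hψ]
  exact orbSum_congr fun φ hφ => by rw [(rel_apply_iff hxp hφ).mpr hx1, map_one]

open scoped Classical in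
/-- The number of characters trivial at `x`. -/
theorem card_trivial_mul (h : Free P) (hxp : orderOf (x : G) = p) :
    (p : ℂ) * ((univ.filter fun ψ : Dual P => ψ x = 1).card : ℂ) = (Nat.card P : ℂ) := by
  have h1 : ∑ ψ : Dual P, ∑ v ∈ sylOrd P, ((ψ v : ℂˣ) : ℂ) = 0 := by
    rw [Finset.sum_comm]
    exact sum_eq_zero fun v hv => by rw [sum_dual h, if_neg (sylOrd_subset_erase v hv)]
  rw [sum_congr rfl (g := fun ψ : Dual P => (p : ℂ) * (if ψ x = 1 then 1 else 0) - 1) fun ψ _ => ?_]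
    at h1
  · rw [sum_sub_distrib, ← mul_sum, sum_boole, sum_const, card_univ, ← Nat.card_eq_fintype_card,
      natCard_dual h, nsmul_one] at h1
    linear_combination h1
  · split_ifs with hψ
    · rw [sum_congr rfl (g := fun _ => (1 : ℂ)) fun v hv => by
        rw [apply_sylOrd hxp hψ hv, Units.val_one],
        sum_const, card_sylOrd x.2 hxp, nsmul_one, Nat.cast_sub hp.out.one_le, Nat.cast_one]
      ring
    · rw [sum_sylOrd_eq h hxp hψ]
      ring

open scoped Classical in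
/-- Sums over the orbits weighted by the value at `x`. -/
theorem sum_orb_weighted (h : Free P) (hxp : orderOf (x : G) = p) (F : Orb P → ℂ) (a b : ℂ)
    (hF : ∀ ψ (hψ : ψ ≠ 1), F (orb ψ hψ) = orbSum ψ x * if ψ x = 1 then a else b) :
    ∑ o : Orb P, F o = (((univ.filter fun ψ : Dual P => ψ x = 1).card : ℂ) - 1) * a -
      ((univ.filter fun ψ : Dual P => ψ x = 1).card : ℂ) * b := by
  have hx : x ≠ 1 := fun h1 => ne_one_of_orderOf hxp (by rw [h1]; rfl)
  have he : (eN : ℂ) ≠ 0 := by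
    intro he0
    have := natCard_normalizer (P := P)
    rw [Nat.cast_eq_zero.mp he0, zero_mul] at this
    exact Nat.card_pos.ne' this
  refine mul_left_cancel₀ he ?_
  rw [← sum_orb_mul h F (fun ψ => orbSum ψ x * if ψ x = 1 then a else b)
    fun ψ hψ => (hF ψ hψ).symm]
  set T := univ.filter fun ψ : Dual P => ψ x = 1 with hT
  set E := univ.erase (1 : Dual P) with hE
  have hfilt : E.filter (fun ψ : Dual P => ψ x = 1) = T.erase 1 := by
    rw [hT, hE, filter_erase]
  have hS : ∑ ψ ∈ E.filter (fun ψ : Dual P => ψ x = 1), orbSum ψ x =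
      ((T.card : ℂ) - 1) * (eN : ℂ) := by
    have h1T : (1 : Dual P) ∈ T := mem_filter.mpr ⟨mem_univ _, rfl⟩
    rw [hfilt, sum_congr rfl (g := fun _ => (eN : ℂ)) fun ψ hψ =>
        orbSum_eq h hxp (ne_of_mem_erase hψ) (mem_filter.mp (mem_of_mem_erase hψ)).2,
      sum_const, nsmul_eq_mul, card_erase_of_mem h1T, Nat.cast_sub (card_pos.mpr ⟨1, h1T⟩),
      Nat.cast_one]
  have hall := sum_orbSum h hx
  rw [← hE, ← sum_filter_add_sum_filter_not E (fun ψ : Dual P => ψ x = 1), hS] at hall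
  rw [← sum_filter_add_sum_filter_not E (fun ψ : Dual P => ψ x = 1),
    sum_congr rfl (g := fun ψ => a * orbSum ψ x) fun ψ hψ => by
      rw [if_pos (mem_filter.mp hψ).2, mul_comm],
    ← mul_sum, hS, sum_congr rfl (g := fun ψ => b * orbSum ψ x) fun ψ hψ => by
      rw [if_neg (mem_filter.mp hψ).2, mul_comm],
    ← mul_sum]
  linear_combination b * hall

end Cfsg.Agent.PSolv92
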