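import Cfsg.Agent.Lib.BlocksCore.Omega
import Mathlib.Algebra.Field.ZMod

/-!
# Counting products of two elements of order `p`

For a group in which any two elements `y`, `z` of order `p` generate a group with a normal
`p`-complement of index `p`, exactly one of the products `y * z ^ k` is `p`-regular and no product
has order divisible by `p ^ 2`.
-/

set_option autoImplicit false
set_option linter.unusedSectionVars false

namespace Cfsg.Agent.PSolv92

open Cfsg Cfsg.Agent.BlocksCore Finset

variable {G : Type*} [Group G] [Fintype G] {p : ℕ}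

/-- Any two elements of order `p` lie in a map to a group of order `p` with `p'`-kernel. -/
def Pairs (p : ℕ) (G : Type*) [Group G] : Prop :=
  ∀ y z : G, orderOf y = p → orderOf z = p →
    ∃ φ : ↥(Subgroup.closure ({y, z} : Set G)) →* Multiplicative (ZMod p),
      (∀ w, φ w = 1 → ¬ p ∣ orderOf w) ∧
      (∀ w : ↥(Subgroup.closure ({y, z} : Set G)), ((w : G) = y ∨ (w : G) = z) → φ w ≠ 1)

open scoped Classical in
/-- The elements of order `p`. -/
noncomputable def ordp (p : ℕ) (G : Type*) [Group G] [Fintype G] : Finset G :=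
  univ.filter fun g => orderOf g = p

theorem mem_ordp {g : G} : g ∈ ordp p G ↔ orderOf g = p := by
  classical simp [ordp]

open scoped Classical in
/-- The indicator of the elements of order `p`. -/
noncomputable def ordInd (p : ℕ) (G : Type*) [Group G] : G → ℂ := fun g =>
  if orderOf g = p then 1 else 0

theorem isClassFunction_ordInd : IsClassFunction G (ordInd p G) := by
  intro g h
  simp only [ordInd]
  rw [show orderOf (h * g * h⁻¹) = orderOf g by rw [← MulAut.conj_apply, MulEquiv.orderOf_eq]]

theorem sum_ordInd_mul (φ : G → ℂ) : ∑ g, ordInd p G g * φ g = ∑ z ∈ ordp p G, φ z := by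
  classical
  simp [ordInd, ordp, sum_filter, ite_mul]

variable (p) in
/-- The class of `x` times the elements of order `p`. -/
noncomputable def prodFun (x : G) : G → ℂ := conv (classInd x) (ordInd p G)

open scoped Classical in
/-- The class of `x`. -/
noncomputable def cls (x : G) : Finset G := univ.filter fun y => IsConj x y

theorem sum_classInd_mul (x : G) (φ : G → ℂ) :
    ∑ g, classInd x g * φ g = ∑ y ∈ cls x, φ y := by
  classical
  rw [cls, sum_filter]
  refine sum_congr rfl fun g _ => ?_
  split_ifs with h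
  · rw [classInd_apply_of_isConj h, one_mul]
  · rw [classInd_apply_of_not_isConj h, zero_mul]

theorem sum_prodFun_mul (x : G) (φ : G → ℂ) :
    ∑ g, prodFun p x g * φ g = ∑ y ∈ cls x, ∑ z ∈ ordp p G, φ (y * z) := by
  rw [← sum_classInd_mul x fun y => ∑ z ∈ ordp p G, φ (y * z)]
  simp only [prodFun, conv_apply, sum_mul]
  rw [sum_comm]
  refine sum_congr rfl fun y _ => ?_
  rw [← sum_ordInd_mul, mul_sum]
  refine Fintype.sum_equiv (Equiv.mulLeft y⁻¹) _ _ fun g => ?_
  simp only [Equiv.coe_mulLeft, mul_inv_cancel_left]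
  ring

theorem exists_of_prodFun_ne_zero {x g : G} (h : prodFun p x g ≠ 0) :
    ∃ y z, IsConj x y ∧ orderOf z = p ∧ g = y * z := by
  classical
  rw [prodFun, conv_apply] at h
  obtain ⟨y, -, hy⟩ := exists_ne_zero_of_sum_ne_zero h
  refine ⟨y, y⁻¹ * g, ?_, ?_, (mul_inv_cancel_left y g).symm⟩
  · by_contra hc
    exact hy (by rw [classInd_apply_of_not_isConj hc, zero_mul])
  · by_contra hc
    exact hy (by rw [ordInd, if_neg hc, mul_zero])

variable [hp : Fact p.Prime]

theorem not_sq_dvd (hG : Pairs p G) {y z : G} (hy : orderOf y = p) (hz : orderOf z = p) :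
    ¬ p ^ 2 ∣ orderOf (y * z) := by
  obtain ⟨φ, hker, -⟩ := hG y z hy hz
  intro hd
  set w : ↥(Subgroup.closure ({y, z} : Set G)) :=
    ⟨y, Subgroup.subset_closure (by simp)⟩ * ⟨z, Subgroup.subset_closure (by simp)⟩ with hw
  have hord : orderOf w = orderOf (y * z) := by
    rw [← Subgroup.orderOf_coe, hw]
    rfl
  have h1 : φ (w ^ p) = 1 := by
    rw [map_pow]
    have := pow_card_eq_one (x := φ w)
    rwa [Fintype.card_multiplicative, ZMod.card] at this
  refine hker _ h1 ?_
  rw [orderOf_pow_of_dvd hp.out.ne_zero (hord ▸ dvd_trans (dvd_pow_self p two_ne_zero) hd)]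
  obtain ⟨k, hk⟩ := hd
  rw [hord, hk, show p ^ 2 * k = p * (p * k) by ring, Nat.mul_div_cancel_left _ hp.out.pos]
  exact dvd_mul_right p k

open scoped Classical in
theorem card_regular_powers (hG : Pairs p G) {y z : G} (hy : orderOf y = p)
    (hz : orderOf z = p) :
    ((univ : Finset (ZMod p)).filter
      fun k => k ≠ 0 ∧ ¬ p ∣ orderOf (y * z ^ k.val)).card = 1 := by
  obtain ⟨φ, hker, hne⟩ := hG y z hy hz
  set y' : ↥(Subgroup.closure ({y, z} : Set G)) := ⟨y, Subgroup.subset_closure (by simp)⟩
  set z' : ↥(Subgroup.closure ({y, z} : Set G)) := ⟨z, Subgroup.subset_closure (by simp)⟩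
  set a : ZMod p := (φ y').toAdd with hadef
  set b : ZMod p := (φ z').toAdd with hbdef
  have ha : a ≠ 0 := fun h => hne y' (Or.inl rfl) (toAdd_eq_zero.mp h)
  have hb : b ≠ 0 := fun h => hne z' (Or.inr rfl) (toAdd_eq_zero.mp h)
  have key : ∀ k : ZMod p, ¬ p ∣ orderOf (y * z ^ k.val) ↔ a + k * b = 0 := by
    intro k
    have hord : orderOf (y * z ^ k.val) = orderOf (y' * z' ^ k.val) := by
      rw [← Subgroup.orderOf_coe]
      rfl
    have hval : (φ (y' * z' ^ k.val)).toAdd = a + k * b := by
      rw [map_mul, map_pow, toAdd_mul, toAdd_pow, ← hadef, ← hbdef, nsmul_eq_mul,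
        ZMod.natCast_zmod_val]
    rw [hord, ← hval, toAdd_eq_zero]
    refine ⟨fun h => ?_, hker _⟩
    by_contra h1
    refine h ?_
    have h2 : orderOf (φ (y' * z' ^ k.val)) ∣ Fintype.card (Multiplicative (ZMod p)) :=
      orderOf_dvd_card
    rw [Fintype.card_multiplicative, ZMod.card] at h2
    have h3 : orderOf (φ (y' * z' ^ k.val)) = p :=
      (hp.out.eq_one_or_self_of_dvd _ h2).resolve_left fun h4 => h1 (orderOf_eq_one_iff.mp h4)
    have h4 := orderOf_map_dvd φ (y' * z' ^ k.val)
    rwa [h3] at h4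
  rw [card_eq_one]
  refine ⟨-a / b, ?_⟩
  ext k
  simp only [mem_filter, mem_univ, true_and, key, mem_singleton]
  constructor
  · rintro ⟨-, h⟩
    field_simp
    linear_combination h
  · rintro rfl
    exact ⟨div_ne_zero (neg_ne_zero.mpr ha) hb, by field_simp; ring⟩

/-- Raising to a power prime to `p` permutes the elements of order `p`. -/
theorem pow_val_mem {z : G} (hz : orderOf z = p) {k : ZMod p} (hk : k ≠ 0) :
    orderOf (z ^ k.val) = p := by
  rw [Nat.Coprime.orderOf_pow, hz]
  rw [hz]
  exact ((hp.out.coprime_iff_not_dvd).mpr fun h => hk (by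
    rw [← ZMod.natCast_zmod_val k, (ZMod.natCast_eq_zero_iff _ _).mpr h]))

theorem pow_val_pow_inv {z : G} (hz : orderOf z = p) {k : ZMod p} (hk : k ≠ 0) :
    (z ^ k.val) ^ (k⁻¹).val = z := by
  rw [← pow_mul]
  conv_rhs => rw [← pow_one z]
  rw [pow_eq_pow_iff_modEq, hz, ← ZMod.natCast_eq_natCast_iff]
  push_cast
  rw [ZMod.natCast_zmod_val, ZMod.natCast_zmod_val, mul_inv_cancel₀ hk]

open scoped Classical in
theorem card_regular (hG : Pairs p G) {y : G} (hy : orderOf y = p) :
    ((ordp p G).filter fun z => ¬ p ∣ orderOf (y * z)).card * (p - 1) = (ordp p G).card := by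
  set T := (univ : Finset (ZMod p)).filter fun k => k ≠ 0 with hT
  have hTcard : T.card = p - 1 := by
    rw [hT, filter_ne', card_erase_of_mem (mem_univ _), card_univ, ZMod.card]
  have h1 : ∑ k ∈ T, ((ordp p G).filter fun z => ¬ p ∣ orderOf (y * z ^ k.val)).card
      = (ordp p G).card := by
    simp only [card_filter]
    rw [sum_comm]
    rw [Finset.sum_congr rfl (g := fun _ => 1) fun z hz => ?_]
    · simp
    · rw [← card_filter, hT, filter_filter]
      exact card_regular_powers hG hy (mem_ordp.mp hz)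
  have h2 : ∀ k ∈ T, ((ordp p G).filter fun z => ¬ p ∣ orderOf (y * z ^ k.val)).card =
      ((ordp p G).filter fun z => ¬ p ∣ orderOf (y * z)).card := by
    intro k hk
    have hk0 : k ≠ 0 := (mem_filter.mp hk).2
    refine card_nbij' (fun z => z ^ k.val) (fun z => z ^ (k⁻¹).val) ?_ ?_ ?_ ?_
    · intro z hz
      simp only [coe_filter, mem_ordp, Set.mem_setOf_eq] at hz ⊢
      exact ⟨pow_val_mem hz.1 hk0, hz.2⟩
    · intro z hz
      simp only [coe_filter, mem_ordp, Set.mem_setOf_eq] at hz ⊢
      have := pow_val_pow_inv hz.1 (inv_ne_zero hk0)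
      rw [inv_inv] at this
      exact ⟨pow_val_mem hz.1 (inv_ne_zero hk0), by rw [this]; exact hz.2⟩
    · intro z hz
      simp only [coe_filter, mem_ordp, Set.mem_setOf_eq] at hz
      exact pow_val_pow_inv hz.1 hk0
    · intro z hz
      simp only [coe_filter, mem_ordp, Set.mem_setOf_eq] at hz
      have := pow_val_pow_inv hz.1 (inv_ne_zero hk0)
      rwa [inv_inv] at this
  rw [sum_congr rfl h2, sum_const, hTcard, smul_eq_mul, mul_comm] at h1
  exact h1

theorem mem_cls {x y : G} : y ∈ cls x ↔ IsConj x y := by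
  classical simp [cls]

open scoped Classical in
theorem sum_prodFun_dvd (hG : Pairs p G) {x : G} (hx : orderOf x = p) :
    ((p : ℂ) - 1) * ∑ g, prodFun p x g * (if p ∣ orderOf g then 1 else 0) =
      ((p : ℂ) - 2) * ((cls x).card * (ordp p G).card) := by
  rw [sum_prodFun_mul, mul_sum]
  rw [sum_congr rfl (g := fun _ => ((p : ℂ) - 2) * (ordp p G).card) fun y hy => ?_]
  · rw [sum_const, nsmul_eq_mul]
    ring
  · obtain ⟨c, hc⟩ := isConj_iff.mp (mem_cls.mp hy)
    have hy' : orderOf y = p := by
      rw [← hc, ← MulAut.conj_apply, MulEquiv.orderOf_eq, hx]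
    have h := card_regular hG hy'
    have hsum : ∑ z ∈ ordp p G, (if p ∣ orderOf (y * z) then (1 : ℂ) else 0) +
        (((ordp p G).filter fun z => ¬ p ∣ orderOf (y * z)).card : ℂ) = (ordp p G).card := by
      rw [sum_boole, ← Nat.cast_add, card_filter_add_card_filter_not]
    have h' : (((ordp p G).filter fun z => ¬ p ∣ orderOf (y * z)).card : ℂ) * ((p : ℂ) - 1) =
        ((ordp p G).card : ℂ) := by
      rw [← h]
      push_cast [Nat.cast_sub hp.out.one_le]
      ring
    linear_combination ((p : ℂ) - 1) * hsum - h'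

end Cfsg.Agent.PSolv92
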