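import Cfsg.Agent.PSolv92.Pairs
import Cfsg.Agent.Lib.BlocksCore.AbelianThreeInvolution

/-!
# Two identities over the principal block

For a cyclic Sylow subgroup with free automizer of order `e`, in a group with the pair property,
`∑ χ(x) S(χ) ^ 2 / χ(1) = |P| e (p - 2)` and the sums through elements of larger order vanish;
here `S(χ)` is the sum of the values at the elements of order `p` of `P`.
-/

set_option autoImplicit false
set_option linter.unusedSectionVars false

namespace Cfsg.Agent.PSolv92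

open Cfsg Cfsg.Agent.BlocksCore Cfsg.Agent.BlocksDefect Finset
open AbelianPrincipal CyclicPrincipal
open AbelianThree (isPPart_inv)

variable {G : Type*} [Group G] [Fintype G] {p : ℕ} [hp : Fact p.Prime] {M : Ideal AlgInt}
  {P : Sylow p G}

open scoped Classical in
/-- The indicator of the section of `v`. -/
noncomputable def secInd (p : ℕ) (v : G) : G → ℂ := fun g =>
  if ∃ u, IsPPart p g u ∧ IsConj v u then 1 else 0

theorem secInd_inv (v g : G) : secInd p v g⁻¹ = secInd p v⁻¹ g := by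
  classical
  simp only [secInd]
  refine if_congr ⟨?_, ?_⟩ rfl rfl
  · rintro ⟨u, hu, hvu⟩
    obtain ⟨c, hc⟩ := isConj_iff.mp hvu
    exact ⟨u⁻¹, by simpa using isPPart_inv hu, isConj_iff.mpr ⟨c, by rw [← hc]; group⟩⟩
  · rintro ⟨u, hu, hvu⟩
    obtain ⟨c, hc⟩ := isConj_iff.mp hvu
    refine ⟨u⁻¹, isPPart_inv hu, isConj_iff.mpr ⟨c, ?_⟩⟩
    rw [← hc]
    group

/-- The average over a section. -/
theorem card_mul_sum_secInd {v : G} {k : ℕ} (hv : orderOf v = p ^ k)
    (K : Subgroup (Subgroup.centralizer ({v} : Set G)))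
    [Fintype K] (hreg : ∀ x, x ∈ K ↔ ¬ p ∣ orderOf x) (φ : G → ℂ) :
    (Nat.card (Subgroup.centralizer ({v} : Set G)) : ℂ) * ∑ g, secInd p v g * φ g =
      ∑ h : G, ∑ c : K,
        φ (h * (v * ((c : Subgroup.centralizer ({v} : Set G)) : G)) * h⁻¹) := by
  classical
  set f : G × K → G := fun hc =>
    hc.1 * (v * ((hc.2 : Subgroup.centralizer ({v} : Set G)) : G)) * hc.1⁻¹ with hf
  have hpart : ∀ hc : G × K, IsPPart p (f hc) (hc.1 * v * hc.1⁻¹) := fun hc =>
    isPPart_conj ⟨((hc.2 : Subgroup.centralizer ({v} : Set G)) : G), rfl,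
      (Subgroup.mem_centralizer_singleton_iff.mp hc.2.1.2).symm, ⟨k, hv⟩, by
        rw [Subgroup.orderOf_coe]; exact (hreg _).mp hc.2.2⟩ hc.1
  have hfib : ∀ g : G, ((univ.filter fun hc => f hc = g).card : ℂ) =
      (Nat.card (Subgroup.centralizer ({v} : Set G)) : ℂ) * secInd p v g := by
    intro g
    by_cases hg : ∃ u, IsPPart p g u ∧ IsConj v u
    · rw [secInd, if_pos hg, mul_one, Nat.cast_inj]
      obtain ⟨u, hu, hvu⟩ := hg
      obtain ⟨h₀, hh₀⟩ := isConj_iff.mp hvu
      obtain ⟨w, hw, hcw, -, hwr⟩ := hu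
      set c₀ := h₀⁻¹ * w * h₀ with hc₀
      have hc₀C : c₀ ∈ Subgroup.centralizer ({v} : Set G) := by
        refine Subgroup.mem_centralizer_singleton_iff.mpr ?_
        rw [← hh₀] at hcw
        calc c₀ * v = h₀⁻¹ * (w * (h₀ * v * h₀⁻¹)) * h₀ := by rw [hc₀]; group
          _ = h₀⁻¹ * ((h₀ * v * h₀⁻¹) * w) * h₀ := by rw [hcw.eq]
          _ = v * c₀ := by rw [hc₀]; group
      have hc₀K : (⟨c₀, hc₀C⟩ : Subgroup.centralizer ({v} : Set G)) ∈ K := by
        rw [hreg, Subgroup.orderOf_mk, hc₀,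
          show h₀⁻¹ * w * h₀ = MulAut.conj h₀⁻¹ w by simp, MulEquiv.orderOf_eq]
        exact hwr
      have hg0 : g = h₀ * (v * c₀) * h₀⁻¹ := by rw [← hw, ← hh₀, hc₀]; group
      have hmem : ∀ hc : G × K, f hc = g →
          h₀⁻¹ * hc.1 ∈ Subgroup.centralizer ({v} : Set G) := by
        intro hc hfc
        have h1 : IsPPart p g (h₀ * v * h₀⁻¹) := by
          rw [hh₀]
          exact ⟨w, hw, hcw, (by
            rw [← hh₀, ← MulAut.conj_apply, MulEquiv.orderOf_eq]
            exact ⟨k, hv⟩), hwr⟩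
        have := isPPart_unique hp.out (hfc ▸ hpart hc) h1
        refine Subgroup.mem_centralizer_singleton_iff.mpr ?_
        calc h₀⁻¹ * hc.1 * v = h₀⁻¹ * (hc.1 * v * hc.1⁻¹) * hc.1 := by group
          _ = h₀⁻¹ * (h₀ * v * h₀⁻¹) * hc.1 := by rw [this]
          _ = v * (h₀⁻¹ * hc.1) := by group
      have hback : ∀ a : Subgroup.centralizer ({v} : Set G),
          a⁻¹ * ⟨c₀, hc₀C⟩ * a ∈ K := fun a => by
        rw [hreg, show a⁻¹ * ⟨c₀, hc₀C⟩ * a = MulAut.conj a⁻¹ ⟨c₀, hc₀C⟩ by simp,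
          MulEquiv.orderOf_eq]
        exact (hreg _).mp hc₀K
      rw [← Nat.card_eq_finsetCard]
      refine Nat.card_congr
        { toFun := fun hc => ⟨h₀⁻¹ * hc.1.1, hmem hc.1 (mem_filter.mp hc.2).2⟩
          invFun := fun a => ⟨(h₀ * a, ⟨a⁻¹ * ⟨c₀, hc₀C⟩ * a, hback a⟩), ?_⟩
          left_inv := ?_
          right_inv := fun a => by ext; simp }
      · refine mem_filter.mpr ⟨mem_univ _, ?_⟩
        have ha : (a : G) * v = v * a := Subgroup.mem_centralizer_singleton_iff.mp a.2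
        rw [hg0, hf]
        simp only [Subgroup.coe_mul, Subgroup.coe_inv]
        calc h₀ * (a : G) * (v * ((a : G)⁻¹ * c₀ * a)) * (h₀ * a)⁻¹
            = h₀ * ((a : G) * v) * (a : G)⁻¹ * c₀ * h₀⁻¹ := by group
          _ = h₀ * (v * c₀) * h₀⁻¹ := by rw [ha]; group
      · intro hc
        obtain ⟨⟨h, c⟩, hhc⟩ := hc
        have hfc := (mem_filter.mp hhc).2
        have ha := Subgroup.mem_centralizer_singleton_iff.mp (hmem (h, c) hfc)
        refine Subtype.ext (Prod.ext (by simp) (Subtype.ext (Subtype.ext ?_)))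
        simp only [Subgroup.coe_mul, Subgroup.coe_inv]
        rw [hf, hg0] at hfc
        simp only at hfc
        refine mul_left_cancel (a := v) ?_
        calc v * ((h₀⁻¹ * h)⁻¹ * c₀ * (h₀⁻¹ * h))
            = (h₀⁻¹ * h)⁻¹ * ((h₀⁻¹ * h) * v) * ((h₀⁻¹ * h)⁻¹ * c₀ * (h₀⁻¹ * h)) := by group
          _ = (h₀⁻¹ * h)⁻¹ * (v * (h₀⁻¹ * h)) * ((h₀⁻¹ * h)⁻¹ * c₀ * (h₀⁻¹ * h)) := by rw [ha]
          _ = h⁻¹ * (h₀ * (v * c₀) * h₀⁻¹) * h := by group
          _ = v * ((c : Subgroup.centralizer ({v} : Set G)) : G) := by rw [← hfc]; group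
    · rw [secInd, if_neg hg, mul_zero, Nat.cast_eq_zero, card_eq_zero, filter_eq_empty_iff]
      exact fun hc _ hfc => hg ⟨_, hfc ▸ hpart hc, isConj_iff.mpr ⟨hc.1, rfl⟩⟩
  rw [mul_sum]
  calc _ = ∑ g, ∑ hc ∈ univ.filter (fun hc => f hc = g), φ (f hc) := by
        refine sum_congr rfl fun g _ => ?_
        rw [sum_congr rfl (g := fun _ => φ g) fun hc hhc => by rw [(mem_filter.mp hhc).2],
          sum_const, nsmul_eq_mul, hfib, mul_assoc]
    _ = ∑ hc : G × K, φ (f hc) := sum_fiberwise univ f fun hc => φ (f hc)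
    _ = _ := Fintype.sum_prod_type _

variable [Fintype (P : Subgroup G)]

open scoped Classical in
theorem sum_secInd_irr (hM : IsPModular p M) (h : Free P) {v : G} (hv : v ∈ (P : Subgroup G))
    (hv1 : v ≠ 1) (θ : IrrCharacter G) :
    (Nat.card P : ℂ) * ∑ g, secInd p v g * (θ : G → ℂ) g =
      if θ ∈ members M G then (Nat.card G : ℂ) * (θ : G → ℂ) v else 0 := by
  have := isPrime hM
  obtain ⟨K, hKn, hKp, hregK, hKi⟩ := exists_kernel hM h hv hv1
  have := Fintype.ofFinite K
  have := Fintype.ofFinite (Subgroup.centralizer ({v} : Set G))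
  have hreg : ∀ x, x ∈ K ↔ ¬ p ∣ orderOf x :=
    fun x => ⟨fun hx hd => hKp (hd.trans (K.orderOf_dvd_natCard hx)), hregK x⟩
  obtain ⟨k, hk⟩ := IsPGroup.iff_orderOf.mp P.2 ⟨v, hv⟩
  rw [Subgroup.orderOf_mk] at hk
  have hK0 : (Nat.card K : ℂ) ≠ 0 := Nat.cast_ne_zero.mpr Nat.card_pos.ne'
  refine mul_left_cancel₀ hK0 ?_
  rw [← mul_assoc, ← Nat.cast_mul, ← hKi, Subgroup.card_mul_index,
    card_mul_sum_secInd hk K hreg,
    sum_congr rfl (g := fun _ =>
      ∑ c : K, (θ : G → ℂ) (v * ((c : Subgroup.centralizer ({v} : Set G)) : G)))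
      fun g _ => sum_congr rfl fun c _ => irr_class θ _ g,
    sum_const, card_univ, ← Nat.card_eq_fintype_card, nsmul_eq_mul]
  split_ifs with hθ
  · rw [sum_congr rfl (g := fun _ => (θ : G → ℂ) v) fun c _ =>
      SectionKernel.apply_mul hM hk hKp hregK (mem_members.mp hθ) c.2,
      sum_const, card_univ, ← Nat.card_eq_fintype_card, nsmul_eq_mul]
    ring
  · suffices h0 : ∑ c : K,
        (θ : G → ℂ) (v * ((c : Subgroup.centralizer ({v} : Set G)) : G)) = 0 by
      rw [h0, mul_zero, mul_zero]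
    have h1 := sum_blockCoeff_section_eq_zero hM hk
      (isPBlock_principal (G := Subgroup.centralizer ({v} : Set G)))
      (fun hc => hθ (mem_members.mpr (eq_principal_of_inducing hM hc ▸ mem_blockOf_self θ)))
      (1 : Subgroup.centralizer ({v} : Set G))
      (by rw [orderOf_one]; exact hp.out.not_dvd_one)
    rw [SectionKernel.blockCoeff_principal hM K hKp hregK, sum_subInd_mul, mul_eq_zero] at h1
    refine Eq.trans (sum_congr rfl fun c _ => ?_)
      (h1.resolve_left (inv_ne_zero hK0))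
    rw [OneMemClass.coe_one, mul_one,
      Subgroup.mem_centralizer_singleton_iff.mp (c : Subgroup.centralizer ({v} : Set G)).2]

theorem card_mul_prodFun (x g : G) :
    (Nat.card G : ℂ) * prodFun p x g =
      ∑ θ : IrrCharacter G, (∑ a, prodFun p x a * (θ : G → ℂ) a) * (θ : G → ℂ) g⁻¹ := by
  classical
  have hF : IsClassFunction G (prodFun p x) :=
    isClassFunction_conv (isClassFunction_classInd x) isClassFunction_ordInd
  simp only [sum_mul]
  rw [sum_comm]
  simp only [mul_assoc, ← mul_sum, sum_irr_mul_inv, mul_ite, mul_zero]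
  rw [← sum_filter]
  have hconj : ∀ a ∈ univ.filter (fun a => IsConj a g),
      prodFun p x a * (Nat.card (Subgroup.centralizer ({a} : Set G)) : ℂ) =
        prodFun p x g * (Nat.card (Subgroup.centralizer ({g} : Set G)) : ℂ) := fun a ha => by
    rw [classFun_eq_of_isConj hF (mem_filter.mp ha).2,
      natCard_centralizer_of_isConj (mem_filter.mp ha).2]
  rw [sum_congr rfl hconj, sum_const, nsmul_eq_mul,
    show (univ.filter fun a => IsConj a g).card = (Subgroup.centralizer ({g} : Set G)).index from ?_,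
    ← Subgroup.card_mul_index (Subgroup.centralizer ({g} : Set G))]
  · push_cast
    ring
  · rw [← natCard_isConj g, ← Nat.card_eq_finsetCard]
    exact Nat.card_congr (Equiv.subtypeEquivRight fun a => by
      simp only [mem_filter, mem_univ, true_and, Set.mem_setOf_eq]
      exact isConj_comm)

theorem sum_prodFun_irr (x : G) (θ : IrrCharacter G) :
    ∑ a, prodFun p x a * (θ : G → ℂ) a =
      ((Subgroup.centralizer ({x} : Set G)).index : ℂ) * (θ : G → ℂ) x / (θ : G → ℂ) 1 *
        ∑ z ∈ ordp p G, (θ : G → ℂ) z := by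
  have h1 := omega_conv θ (isClassFunction_classInd x)
    (isClassFunction_ordInd (p := p) (G := G))
  rw [omega_classInd (irr_class θ), centralChar, omega_eq_sum, omega_eq_sum, sum_ordInd_mul] at h1
  rw [prodFun]
  have := irr_one_ne_zero θ
  field_simp at h1 ⊢
  linear_combination h1

/-- The sum of the class of `x` times the elements of order `p` over the section of `v`. -/
theorem sum_secInd_prodFun (hM : IsPModular p M) (h : Free P) {v : G}
    (hv : v ∈ (P : Subgroup G)) (hv1 : v ≠ 1) (x : G) :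
    (Nat.card P : ℂ) * ∑ g, secInd p v g * prodFun p x g =
      ((Subgroup.centralizer ({x} : Set G)).index : ℂ) * ∑ θ ∈ members M G,
        (θ : G → ℂ) x / (θ : G → ℂ) 1 * (∑ z ∈ ordp p G, (θ : G → ℂ) z) * (θ : G → ℂ) v⁻¹ := by
  classical
  have hG0 : (Nat.card G : ℂ) ≠ 0 := Nat.cast_ne_zero.mpr Nat.card_pos.ne'
  refine mul_left_cancel₀ hG0 ?_
  have hinv : ∀ θ : IrrCharacter G, ∑ g, secInd p v g * (θ : G → ℂ) g⁻¹ =
      ∑ g, secInd p v⁻¹ g * (θ : G → ℂ) g := fun θ =>
    Fintype.sum_equiv (Equiv.inv G) _ _ fun g => by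
      rw [Equiv.inv_apply, ← secInd_inv, inv_inv]
  calc (Nat.card G : ℂ) * ((Nat.card P : ℂ) * ∑ g, secInd p v g * prodFun p x g)
      = ∑ θ : IrrCharacter G, (∑ a, prodFun p x a * (θ : G → ℂ) a) *
          ((Nat.card P : ℂ) * ∑ g, secInd p v g * (θ : G → ℂ) g⁻¹) := by
        rw [mul_left_comm, mul_sum (a := (Nat.card G : ℂ))]
        simp only [mul_left_comm (Nat.card G : ℂ), card_mul_prodFun, mul_sum]
        rw [sum_comm]
        exact sum_congr rfl fun θ _ => sum_congr rfl fun g _ => by ring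
    _ = ∑ θ ∈ members M G, (∑ a, prodFun p x a * (θ : G → ℂ) a) *
          ((Nat.card G : ℂ) * (θ : G → ℂ) v⁻¹) := by
        simp only [hinv, sum_secInd_irr hM h (inv_mem hv) (inv_ne_one.mpr hv1), mul_ite, mul_zero]
        rw [← sum_filter]
        exact sum_congr (by ext θ; simp) fun _ _ => rfl
    _ = _ := by
        rw [mul_sum, mul_sum]
        exact sum_congr rfl fun θ _ => by rw [sum_prodFun_irr]; ring

variable (P) in
open scoped Classical in
/-- The elements of order `p` of `P`. -/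
noncomputable def sylOrd : Finset (P : Subgroup G) := univ.filter fun v => orderOf (v : G) = p

theorem mem_sylOrd {v : (P : Subgroup G)} : v ∈ sylOrd P ↔ orderOf (v : G) = p := by
  classical simp [sylOrd]

variable (P) in
/-- The sum over the elements of order `p` of `P`. -/
noncomputable def ordSum (θ : G → ℂ) : ℂ := ∑ v ∈ sylOrd P, θ (v : G)

theorem ne_one_of_orderOf {v : G} (hv : orderOf v = p) : v ≠ 1 := fun h1 =>
  hp.out.ne_one (by rw [← hv, h1, orderOf_one])

omit [Fintype ↥(P : Subgroup G)] in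
theorem zpowers_eq_of_cyclic [hP : IsCyclic (P : Subgroup G)] {a b : G}
    (ha : a ∈ (P : Subgroup G)) (hb : b ∈ (P : Subgroup G)) (hab : orderOf a = orderOf b) :
    Subgroup.zpowers a = Subgroup.zpowers b := by
  have h0 : Subgroup.zpowers (⟨a, ha⟩ : (P : Subgroup G)) = Subgroup.zpowers ⟨b, hb⟩ := by
    have := Fintype.ofFinite (P : Subgroup G)
    classical
    set H := Subgroup.zpowers (⟨a, ha⟩ : (P : Subgroup G))
    have key : ∀ c : (P : Subgroup G), orderOf c = orderOf a →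
        (Subgroup.zpowers c : Set (P : Subgroup G)).toFinset =
          univ.filter fun g => g ^ orderOf a = 1 := by
      intro c hc
      refine eq_of_subset_of_card_le (fun g hg => ?_) ?_
      · obtain ⟨k, rfl⟩ := Subgroup.mem_zpowers_iff.mp (Set.mem_toFinset.mp hg)
        refine mem_filter.mpr ⟨mem_univ _, ?_⟩
        rw [← zpow_natCast, zpow_comm, zpow_natCast, ← hc, pow_orderOf_eq_one, one_zpow]
      · refine (IsCyclic.card_pow_eq_one_le (orderOf_pos a)).trans_eq ?_
        rw [Set.toFinset_card, ← Nat.card_eq_fintype_card]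
        exact hc.symm.trans (Nat.card_zpowers c).symm
    refine SetLike.coe_injective ?_
    rw [← Set.toFinset_inj, key _ (Subgroup.orderOf_mk a ha),
      key _ ((Subgroup.orderOf_mk b hb).trans hab.symm)]
  have := congrArg (Subgroup.map (P : Subgroup G).subtype) h0
  rwa [MonoidHom.map_zpowers, MonoidHom.map_zpowers] at this

variable [hcyc : IsCyclic (P : Subgroup G)] {x : G}

theorem card_sylOrd (hx : x ∈ (P : Subgroup G)) (hxp : orderOf x = p) :
    (sylOrd P).card = p - 1 := by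
  classical
  have : (sylOrd P).map ⟨Subtype.val, Subtype.val_injective⟩ =
      ((Subgroup.zpowers x : Set G).toFinset).erase 1 := by
    ext g
    simp only [mem_map, mem_sylOrd, Function.Embedding.coeFn_mk, mem_erase, Set.mem_toFinset,
      SetLike.mem_coe]
    constructor
    · rintro ⟨v, hv, rfl⟩
      refine ⟨ne_one_of_orderOf hv, ?_⟩
      rw [← zpowers_eq_of_cyclic v.2 hx (hv.trans hxp.symm)]
      exact Subgroup.mem_zpowers _
    · rintro ⟨hg1, hg⟩
      refine ⟨⟨g, (Subgroup.zpowers_le.mpr hx) hg⟩, ?_, rfl⟩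
      have hd := Subgroup.orderOf_dvd_natCard _ hg
      rw [Nat.card_zpowers, hxp] at hd
      exact (hp.out.eq_one_or_self_of_dvd _ hd).resolve_left
        fun h1 => hg1 (orderOf_eq_one_iff.mp h1)
  rw [← card_map ⟨Subtype.val, Subtype.val_injective⟩, this,
    card_erase_of_mem (Set.mem_toFinset.mpr (one_mem _)), Set.toFinset_card,
    ← Nat.card_eq_fintype_card]
  exact congrArg (· - 1) ((Nat.card_zpowers x).trans hxp)

/-- An element of order `p` is conjugate into `P`. -/
theorem exists_conj_mem (P : Sylow p G) {z : G} (hz : orderOf z = p) :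
    ∃ c : G, c * z * c⁻¹ ∈ (P : Subgroup G) := by
  obtain ⟨T, hT⟩ := (IsPGroup.of_card (n := 1) (by rw [Nat.card_zpowers, hz, pow_one]) :
    IsPGroup p (Subgroup.zpowers z)).exists_le_sylow
  obtain ⟨c, hc⟩ := MulAction.exists_smul_eq G T P
  exact ⟨c, hc ▸ ⟨z, hT (Subgroup.mem_zpowers z), rfl⟩⟩

/-- All elements of order `p` against those of `P`. -/
theorem normalizer_mul_sum_ordp (hx : x ∈ (P : Subgroup G)) (hxp : orderOf x = p) (φ : G → ℂ)
    (hφ : IsClassFunction G φ) :
    (Nat.card (Subgroup.normalizer (Subgroup.zpowers x : Set G)) : ℂ) * ∑ z ∈ ordp p G, φ z =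
      (Nat.card G : ℂ) * ordSum P φ := by
  classical
  set f : G × (P : Subgroup G) → G := fun hv => hv.1 * hv.2 * hv.1⁻¹ with hf
  set s := (univ : Finset G) ×ˢ sylOrd P with hs
  have hfib : ∀ z ∈ ordp p G, (s.filter fun hv => f hv = z).card =
      Nat.card (Subgroup.normalizer (Subgroup.zpowers x : Set G)) := by
    intro z hz
    obtain ⟨c, hc⟩ := exists_conj_mem P (mem_ordp.mp hz)
    set v₀ := c * z * c⁻¹ with hv₀
    have hv₀p : orderOf v₀ = p := by
      rw [hv₀, ← MulAut.conj_apply, MulEquiv.orderOf_eq]; exact mem_ordp.mp hz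
    have hzp : Subgroup.zpowers v₀ = Subgroup.zpowers x :=
      zpowers_eq_of_cyclic hc hx (hv₀p.trans hxp.symm)
    have hiff : ∀ h : G, (c * h)⁻¹ * v₀ * (c * h) ∈ (P : Subgroup G) ↔
        c * h ∈ Subgroup.normalizer (Subgroup.zpowers x : Set G) := by
      intro h
      have hord : orderOf ((c * h)⁻¹ * v₀ * (c * h)) = p := by
        rw [show (c * h)⁻¹ * v₀ * (c * h) = MulAut.conj (c * h)⁻¹ v₀ by
            rw [MulAut.conj_apply, inv_inv],
          MulEquiv.orderOf_eq, hv₀p]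
      constructor
      · intro hm
        rw [← inv_mem_iff, Subgroup.mem_normalizer_iff_map_conj_eq]
        rw [← hzp, MonoidHom.map_zpowers, hzp]
        refine zpowers_eq_of_cyclic ?_ hx ?_
        · simpa [mul_assoc] using hm
        · exact (MulEquiv.orderOf_eq _ _).trans (hv₀p.trans hxp.symm)
      · intro hn
        have := (Subgroup.mem_normalizer_iff.mp (inv_mem hn) v₀).mp
          (hzp ▸ Subgroup.mem_zpowers v₀)
        rw [inv_inv] at this
        exact (Subgroup.zpowers_le.mpr hx) this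
    rw [← Nat.card_eq_finsetCard]
    refine Nat.card_congr
      { toFun := fun hv => ⟨c * hv.1.1, (hiff _).mp ?_⟩
        invFun := fun n => ⟨(c⁻¹ * n, ⟨(n : G)⁻¹ * v₀ * n, ?_⟩), ?_⟩
        left_inv := ?_
        right_inv := fun n => by ext; simp }
    · have h2 : hv.1.1 * (hv.1.2 : G) * hv.1.1⁻¹ = z := (mem_filter.mp hv.2).2
      have : (c * hv.1.1)⁻¹ * v₀ * (c * hv.1.1) = hv.1.2 := by
        rw [hv₀]
        calc _ = (c * hv.1.1)⁻¹ * (c * (hv.1.1 * hv.1.2 * hv.1.1⁻¹) * c⁻¹) * (c * hv.1.1) := by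
              rw [h2]
          _ = _ := by group
      rw [this]
      exact hv.1.2.2
    · have := (hiff (c⁻¹ * n)).mpr (by rw [mul_inv_cancel_left]; exact n.2)
      rwa [mul_inv_cancel_left] at this
    · simp only [hs, mem_filter, mem_product, mem_univ, true_and, mem_sylOrd, hf]
      refine ⟨?_, by rw [hv₀]; group⟩
      rw [show (n : G)⁻¹ * v₀ * n = MulAut.conj (n : G)⁻¹ v₀ by simp, MulEquiv.orderOf_eq, hv₀p]
    · intro hv
      have h2 : hv.1.1 * (hv.1.2 : G) * hv.1.1⁻¹ = z := (mem_filter.mp hv.2).2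
      refine Subtype.ext (Prod.ext (by simp) (Subtype.ext ?_))
      simp only
      rw [hv₀]
      calc _ = (c * hv.1.1)⁻¹ * (c * (hv.1.1 * hv.1.2 * hv.1.1⁻¹) * c⁻¹) * (c * hv.1.1) := by
            rw [h2]
        _ = _ := by group
  have hmaps : ∀ hv ∈ s, f hv ∈ ordp p G := fun hv hh => by
    rw [mem_ordp]
    change orderOf (hv.1 * (hv.2 : G) * hv.1⁻¹) = p
    rw [← MulAut.conj_apply, MulEquiv.orderOf_eq]
    exact mem_sylOrd.mp (mem_product.mp hh).2
  calc _ = ∑ z ∈ ordp p G, ∑ hv ∈ s.filter (fun hv => f hv = z), φ (f hv) := by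
        rw [mul_sum]
        refine sum_congr rfl fun z hz => ?_
        rw [sum_congr rfl (g := fun _ => φ z) fun hv hh => by rw [(mem_filter.mp hh).2], sum_const,
          nsmul_eq_mul, hfib z hz]
    _ = ∑ hv ∈ s, φ (f hv) := sum_fiberwise_of_maps_to hmaps fun hv => φ (f hv)
    _ = _ := by
        rw [hs, sum_product]
        simp only [hf, hφ _ _]
        rw [sum_const, card_univ, nsmul_eq_mul, Nat.card_eq_fintype_card]
        rfl

open scoped Classical in
theorem card_sylOrd_conj (h : Free P) {u : G} (hu : orderOf u = p) :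
    ((sylOrd P).filter fun v : (P : Subgroup G) => IsConj (v : G) u).card =
      (Subgroup.centralizer ((P : Subgroup G) : Set G)).relIndex
        (Subgroup.normalizer ((P : Subgroup G) : Set G)) := by
  obtain ⟨c, hc⟩ := exists_conj_mem P hu
  set y : (P : Subgroup G) := ⟨c * u * c⁻¹, hc⟩ with hy
  have hyu : IsConj u (y : G) := isConj_iff.mpr ⟨c, rfl⟩
  have hy1 : y ≠ 1 := fun h1 => ne_one_of_orderOf hu
    (conj_eq_one_iff.mp (congrArg Subtype.val h1))
  have h1 := sum_isConj h y hy1 fun _ => (1 : ℂ)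
  rw [sum_boole, sum_const, card_univ, ← Nat.card_eq_fintype_card, natCard_normalizer, nsmul_one,
    ← Nat.cast_mul, Nat.cast_inj] at h1
  rw [← Nat.eq_of_mul_eq_mul_right Nat.card_pos h1]
  congr 1
  ext v
  simp only [mem_filter, mem_sylOrd, mem_univ, true_and]
  constructor
  · exact fun hv => hyu.symm.trans hv.2.symm
  · intro hv
    have hvu : IsConj (v : G) u := hv.symm.trans hyu.symm
    obtain ⟨d, hd⟩ := isConj_iff.mp hvu
    exact ⟨(MulEquiv.orderOf_eq (MulAut.conj d) _).symm.trans (by rw [MulAut.conj_apply, hd, hu]),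
      hvu⟩

variable (hM : IsPModular p M) (h : Free P) (hG : Pairs p G)

include hM h hG

/-- The sums through elements of order at least `p ^ 2` vanish. -/
theorem sum_mem_sq_eq_zero (hx : x ∈ (P : Subgroup G)) (hxp : orderOf x = p) {v : G}
    (hv : v ∈ (P : Subgroup G)) (hv2 : p ^ 2 ∣ orderOf v) :
    ∑ θ ∈ members M G,
      (θ : G → ℂ) x / (θ : G → ℂ) 1 * ordSum P (θ : G → ℂ) * (θ : G → ℂ) v⁻¹ = 0 := by
  classical
  have hv1 : v ≠ 1 := fun h1 => by
    rw [h1, orderOf_one, Nat.dvd_one, Nat.pow_eq_one] at hv2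
    exact hp.out.ne_one (hv2.resolve_right two_ne_zero)
  have hsum : ∑ g, secInd p v g * prodFun p x g = 0 := by
    refine sum_eq_zero fun g _ => ?_
    by_contra hne
    obtain ⟨hs, hF⟩ := mul_ne_zero_iff.mp hne
    obtain ⟨u, hu, hvu⟩ : ∃ u, IsPPart p g u ∧ IsConj v u := by
      by_contra hc
      exact hs (if_neg hc)
    obtain ⟨y, z, hy, hz, rfl⟩ := exists_of_prodFun_ne_zero hF
    obtain ⟨d, hd⟩ := isConj_iff.mp hy
    refine not_sq_dvd hG (y := y) (by rw [← hd, ← MulAut.conj_apply, MulEquiv.orderOf_eq, hxp]) hz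
      ?_
    obtain ⟨w, hw, hcw, ⟨k, hk⟩, hwr⟩ := hu
    obtain ⟨d', hd'⟩ := isConj_iff.mp hvu
    have hu2 : p ^ 2 ∣ orderOf u := by
      rw [← hd', ← MulAut.conj_apply, MulEquiv.orderOf_eq]; exact hv2
    rw [← hw, hcw.orderOf_mul_eq_mul_orderOf_of_coprime (hk ▸ Nat.Coprime.pow_left _
      (hp.out.coprime_iff_not_dvd.mpr hwr))]
    exact hu2.trans (dvd_mul_right _ _)
  have h1 := sum_secInd_prodFun hM h hv hv1 x
  rw [hsum, mul_zero, eq_comm, mul_eq_zero] at h1
  replace h1 := h1.resolve_left (Nat.cast_ne_zero.mpr Subgroup.index_ne_zero_of_finite)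
  have hG0 : (Nat.card G : ℂ) ≠ 0 := Nat.cast_ne_zero.mpr Nat.card_pos.ne'
  refine mul_left_cancel₀ hG0 ?_
  rw [mul_zero, ← mul_zero (Nat.card (Subgroup.normalizer (Subgroup.zpowers x : Set G)) : ℂ), ← h1,
    mul_sum, mul_sum]
  refine sum_congr rfl fun θ _ => ?_
  have := normalizer_mul_sum_ordp (P := P) hx hxp (θ : G → ℂ) (irr_class θ)
  linear_combination (-((θ : G → ℂ) x / (θ : G → ℂ) 1 * (θ : G → ℂ) v⁻¹)) * this

/-- The identity from the proportion of `p`-regular products. -/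
theorem sum_mem_eq (hx : x ∈ (P : Subgroup G)) (hxp : orderOf x = p) :
    ∑ θ ∈ members M G, (θ : G → ℂ) x / (θ : G → ℂ) 1 * ordSum P (θ : G → ℂ) ^ 2 =
      (Nat.card P : ℂ) * ((Subgroup.centralizer ((P : Subgroup G) : Set G)).relIndex
        (Subgroup.normalizer ((P : Subgroup G) : Set G)) : ℂ) * ((p : ℂ) - 2) := by
  classical
  set e : ℂ := ((Subgroup.centralizer ((P : Subgroup G) : Set G)).relIndex
    (Subgroup.normalizer ((P : Subgroup G) : Set G)) : ℂ) with he
  set J : ℂ := ((Subgroup.centralizer ({x} : Set G)).index : ℂ) with hJ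
  set N : ℂ := (Nat.card (Subgroup.normalizer (Subgroup.zpowers x : Set G)) : ℂ) with hN
  set F := prodFun p x with hF
  -- each singular product lies in `e` of the sections
  have hpt : ∀ g, F g * ∑ v ∈ sylOrd P, secInd p (v : G) g =
      e * (F g * if p ∣ orderOf g then 1 else 0) := by
    intro g
    by_cases hF0 : F g = 0
    · simp [hF0]
    obtain ⟨y, z, hy, hz, rfl⟩ := exists_of_prodFun_ne_zero hF0
    obtain ⟨u, hu⟩ := exists_pPart hp.out (y * z)
    obtain ⟨d, hd⟩ := isConj_iff.mp hy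
    have hsq := not_sq_dvd hG (y := y)
      (by rw [← hd, ← MulAut.conj_apply, MulEquiv.orderOf_eq, hxp]) hz
    obtain ⟨w, hw, hcw, ⟨k, hk⟩, hwr⟩ := hu
    have hord : orderOf (y * z) = p ^ k * orderOf w := by
      rw [← hw, hcw.orderOf_mul_eq_mul_orderOf_of_coprime (hk ▸ Nat.Coprime.pow_left _
        (hp.out.coprime_iff_not_dvd.mpr hwr)), hk]
    have hsec : ∀ v : G, secInd p v (y * z) = if IsConj v u then 1 else 0 := fun v => by
      simp only [secInd]
      refine if_congr ⟨?_, fun hc => ⟨u, ⟨w, hw, hcw, ⟨k, hk⟩, hwr⟩, hc⟩⟩ rfl rfl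
      rintro ⟨u', hu', hc⟩
      rwa [isPPart_unique hp.out (g := y * z) ⟨w, hw, hcw, ⟨k, hk⟩, hwr⟩ hu']
    simp only [hsec, sum_boole]
    match k, hk, hord with
    | 0, hk, hord =>
      rw [pow_zero, one_mul] at hord
      rw [if_neg (hord ▸ hwr), mul_zero, mul_zero, card_eq_zero.mpr, Nat.cast_zero, mul_zero]
      rw [filter_eq_empty_iff]
      intro v hv hc
      rw [pow_zero, orderOf_eq_one_iff] at hk
      rw [hk, isConj_comm, isConj_one_right] at hc
      exact ne_one_of_orderOf (mem_sylOrd.mp hv) hc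
    | 1, hk, hord =>
      rw [pow_one] at hk hord
      rw [if_pos (hord ▸ dvd_mul_right p _), card_sylOrd_conj h hk, ← he]
      ring
    | j + 2, hk, hord =>
      exact absurd (hord ▸ (pow_dvd_pow p (by omega : 2 ≤ j + 2)).trans (dvd_mul_right _ _)) hsq
  have hlhs : ∑ v ∈ sylOrd P, ∑ g, secInd p (v : G) g * F g =
      e * ∑ g, F g * if p ∣ orderOf g then 1 else 0 := by
    rw [sum_comm, mul_sum]
    exact sum_congr rfl fun g _ => by rw [← hpt, mul_sum]; exact sum_congr rfl fun v _ => mul_comm _ _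
  have hsecs : (Nat.card P : ℂ) * ∑ v ∈ sylOrd P, ∑ g, secInd p (v : G) g * F g =
      J * ∑ θ ∈ members M G, (θ : G → ℂ) x / (θ : G → ℂ) 1 *
        (∑ z ∈ ordp p G, (θ : G → ℂ) z) * ordSum P (θ : G → ℂ) := by
    rw [mul_sum, sum_congr rfl fun v hv => sum_secInd_prodFun hM h v.2
      (ne_one_of_orderOf (mem_sylOrd.mp hv)) x, ← mul_sum, sum_comm]
    refine congrArg _ (sum_congr rfl fun θ _ => ?_)
    rw [← mul_sum]
    congr 1
    refine sum_nbij' (fun v => v⁻¹) (fun v => v⁻¹) ?_ ?_ (fun v _ => inv_inv v)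
      (fun v _ => inv_inv v) (fun v _ => by rw [Subgroup.coe_inv]) <;>
      · intro v hv
        simpa [mem_sylOrd, orderOf_inv] using hv
  have hcls : ((cls x).card : ℂ) = J := by
    rw [hJ, ← natCard_isConj x, ← Nat.card_eq_finsetCard]
    exact_mod_cast Nat.card_congr (Equiv.subtypeEquivRight fun y => mem_cls)
  have hord : N * ((ordp p G).card : ℂ) = (Nat.card G : ℂ) * ((p : ℂ) - 1) := by
    have := normalizer_mul_sum_ordp (P := P) hx hxp (fun _ => (1 : ℂ)) fun _ _ => rfl
    rw [ordSum, sum_const, sum_const, card_sylOrd hx hxp, nsmul_one, nsmul_one, ← hN] at this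
    rw [this, Nat.cast_sub hp.out.one_le, Nat.cast_one]
  have hJ0 : J ≠ 0 := Nat.cast_ne_zero.mpr Subgroup.index_ne_zero_of_finite
  have hG0 : (Nat.card G : ℂ) ≠ 0 := Nat.cast_ne_zero.mpr Nat.card_pos.ne'
  have hp1 : (p : ℂ) - 1 ≠ 0 := sub_ne_zero.mpr (by exact_mod_cast hp.out.ne_one)
  have htot := sum_prodFun_dvd hG hxp
  rw [← hF, hcls] at htot
  have hS : ∀ θ : IrrCharacter G, N * ∑ z ∈ ordp p G, (θ : G → ℂ) z =
      (Nat.card G : ℂ) * ordSum P (θ : G → ℂ) := fun θ =>
    normalizer_mul_sum_ordp (P := P) hx hxp (θ : G → ℂ) (irr_class θ)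
  refine mul_left_cancel₀ (mul_ne_zero hp1 (mul_ne_zero hJ0 hG0)) ?_
  calc ((p : ℂ) - 1) * (J * (Nat.card G : ℂ)) *
        ∑ θ ∈ members M G, (θ : G → ℂ) x / (θ : G → ℂ) 1 * ordSum P (θ : G → ℂ) ^ 2
      = ((p : ℂ) - 1) * N * (J * ∑ θ ∈ members M G, (θ : G → ℂ) x / (θ : G → ℂ) 1 *
        (∑ z ∈ ordp p G, (θ : G → ℂ) z) * ordSum P (θ : G → ℂ)) := by
        rw [mul_sum, mul_sum, mul_sum]
        refine sum_congr rfl fun θ _ => ?_
        linear_combination (-(((p : ℂ) - 1) * J * ((θ : G → ℂ) x / (θ : G → ℂ) 1) *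
          ordSum P (θ : G → ℂ))) * hS θ
    _ = (Nat.card P : ℂ) * e * N *
        (((p : ℂ) - 1) * ∑ g, F g * if p ∣ orderOf g then 1 else 0) := by
        rw [← hsecs, hlhs]
        ring
    _ = _ := by
        rw [htot]
        linear_combination (Nat.card P : ℂ) * e * ((p : ℂ) - 2) * J * hord

end Cfsg.Agent.PSolv92
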